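import Groth.Agent.Etbc.H201.CycVan
import Groth.Agent.Etbc.H205.AlgExt
import Groth.Agent.CurvesA.EtFieldTors

/-!
# `ℓ`-cohomological dimension of fields: dévissage to sheaves killed by `ℓ`, prime-to-`ℓ` descent,
# cyclic descent
-/

set_option autoImplicit false

universe u

open CategoryTheory Category Limits Opposite AlgebraicGeometry Abelian
open Groth.Agent.CurvesA Groth.Agent.CurvesA.EtFieldObj Groth.Agent.CurvesA.EtFieldDesc
  Groth.Agent.CurvesA.EtFieldTr Groth.Agent.CurvesA.ExtMid Groth.Agent.CurvesA.EtFieldFin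
  Groth.Agent.CurvesA.EtFieldTors

namespace Groth.Agent.Etbc.H201.CdField

/-- `cd_ℓ(K) ≤ d`, abbreviated. -/
abbrev Cd (K : Type u) [Field K] (ℓ d : ℕ) : Prop := Dix.CohDimLEAt (Spec (CommRingCat.of K)) ℓ d

section

variable {K : Type u} [Field K]

theorem exists_pow_nsmul {ℓ : ℕ} {F : EtCoh.Ab (Spec (CommRingCat.of K))}
    (hF : Dix.IsPrimaryTorsion ℓ F) (E : Type u) [Field E] [Algebra K E]
    [FiniteDimensional K E] [Algebra.IsSeparable K E] (a : F.obj.obj (op (etObj K E))) :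
    ∃ k : ℕ, (ℓ ^ k) • a = 0 := by
  let x : (etObj K E).left := (⟨⊥, Ideal.isPrime_bot⟩ : PrimeSpectrum E)
  obtain ⟨V, g, ⟨v, -⟩, k, h⟩ := hF (etObj K E) a x
  have : Nonempty V.left := ⟨v⟩
  refine ⟨k, map_injective F g ?_⟩
  rw [map_nsmul, h, map_zero]

theorem isPrimaryTorsion_of_mono {ℓ : ℕ} {F G : EtCoh.Ab (Spec (CommRingCat.of K))} (i : F ⟶ G)
    [Mono i] (h : Dix.IsPrimaryTorsion ℓ G) : Dix.IsPrimaryTorsion ℓ F := by
  intro U s x
  obtain ⟨V, g, hv, k, h1⟩ := h U (i.hom.app (op U) s) x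
  refine ⟨V, g, hv, k, app_injective i _ ?_⟩
  rw [map_nsmul, nat_apply, h1, map_zero]

/-- A finitely generated `ℓ`-primary torsion group is killed by a power of `ℓ`. -/
theorem exists_pow_nsmul_of_fg {A : Type*} [AddCommGroup A] [Module.Finite ℤ A] (ℓ : ℕ)
    (h : ∀ a : A, ∃ k : ℕ, (ℓ ^ k) • a = 0) : ∃ k : ℕ, ∀ a : A, (ℓ ^ k) • a = 0 := by
  obtain ⟨S, hS⟩ := Module.Finite.fg_top (R := ℤ) (M := A)
  choose f hf using h
  refine ⟨∑ a ∈ S, f a, fun a => ?_⟩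
  have ha : a ∈ Submodule.span ℤ (S : Set A) := by rw [hS]; trivial
  induction ha using Submodule.span_induction with
  | mem x hx =>
    obtain ⟨c, hc⟩ := Nat.exists_eq_add_of_le (Finset.single_le_sum (f := f)
      (fun _ _ => Nat.zero_le _) hx)
    rw [hc, add_comm, pow_add, mul_smul, hf, smul_zero]
  | zero => rw [smul_zero]
  | add x y _ _ hx hy => rw [smul_add, hx, hy, add_zero]
  | smul r x _ hx => rw [smul_comm, hx, smul_zero]

/-- A finite split `ℓ`-primary torsion sheaf is killed by a power of `ℓ`. -/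
theorem exists_killedBy_pow {ℓ : ℕ} {F : EtCoh.Ab (Spec (CommRingCat.of K))} (h : Fin' F)
    (hF : Dix.IsPrimaryTorsion ℓ F) : ∃ k : ℕ, EtCoh.KilledBy (ℓ ^ k) F := by
  obtain ⟨N, _, _, _, _, h1, h2⟩ := h
  have h2' : Module.Finite ℤ (F.obj.obj (op (etObj K N))) := h2
  obtain ⟨k, hk⟩ := exists_pow_nsmul_of_fg ℓ (A := F.obj.obj (op (etObj K N)))
    (fun a => exists_pow_nsmul hF N a)
  refine ⟨k, fun U s => ?_⟩
  refine sect_ext fun N' _ _ _ _ b => ?_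
  obtain ⟨M, _, _, _, _, ⟨φ⟩, ⟨ψ⟩⟩ := exists_galois (K := K) N' N
  refine map_injective F (etMap φ) ?_
  obtain ⟨a, ha⟩ := h1 M (etMap ψ) (F.obj.map (etMap φ).op (F.obj.map b.op s))
  rw [map_nsmul, map_nsmul, ← ha, map_zero, map_zero, ← map_nsmul, hk, map_zero]

/-- Dévissage: `cd_ℓ(K) ≤ d` can be tested on sheaves killed by `ℓ`. -/
theorem cd_of_killed {ℓ d : ℕ} (hℓ : ℓ.Prime)
    (h : ∀ F : EtCoh.Ab (Spec (CommRingCat.of K)), ℓ • 𝟙 F = 0 → ∀ q, d < q → Van (ZL K K) q F) :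
    Cd K ℓ d := by
  intro F hF q hq
  refine EtFieldH.subsingleton_H F q fun x => ?_
  obtain ⟨F', i, x', hF', hi, rfl⟩ := exists_fin_sub (fin_ZL K) x
  obtain ⟨k, hK⟩ := exists_killedBy_pow hF' (isPrimaryTorsion_of_mono i hF)
  have hv : Van (ZL K K) q F' := by
    refine Van.of_killed (ℓ ^ k) (pow_ne_zero k hℓ.ne_zero) (fun ℓ' hℓ' hd G hG => ?_) F'
      ((EtKilled.killedBy_iff _ F').1 hK)
    obtain rfl : ℓ' = ℓ := (Nat.prime_dvd_prime_iff_eq hℓ' hℓ).1 (hℓ'.dvd_of_dvd_pow hd)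
    exact h G hG q hq
  rw [hv x', Ext.zero_comp]

theorem isPrimaryTorsion_of_killedBy {X : Scheme.{u}} {ℓ : ℕ} {F : EtCoh.Ab X}
    (h : EtCoh.KilledBy ℓ F) : Dix.IsPrimaryTorsion ℓ F := by
  intro U s x
  refine ⟨U, 𝟙 U, ⟨x, rfl⟩, 1, ?_⟩
  rw [pow_one]
  exact h U _

theorem van_of_cd {ℓ d : ℕ} (h : Cd K ℓ d) (F : EtCoh.Ab (Spec (CommRingCat.of K)))
    (hF : ℓ • 𝟙 F = 0) (q : ℕ) (hq : d < q) : Van (ZL K K) q F := by
  intro x
  have := h F (isPrimaryTorsion_of_killedBy ((EtKilled.killedBy_iff ℓ F).2 hF)) q hq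
  exact (EtFieldH.HEquiv F q).symm.injective (Subsingleton.elim _ _)

/-- `cd_ℓ(L) ≤ d` gives vanishing of `Ext^q(Z_L, F)` over `K`, `L/K` finite separable. -/
theorem van_of_cd_ext {ℓ d : ℕ} (L : Type u) [Field L] [Algebra K L] [FiniteDimensional K L]
    [Algebra.IsSeparable K L] (h : Cd L ℓ d) (F : EtCoh.Ab (Spec (CommRingCat.of K)))
    (hF : ℓ • 𝟙 F = 0) (q : ℕ) (hq : d < q) : Van (ZL K L) q F := by
  refine van_ZL_iff L F q (van_of_cd h (R L F) ?_ q hq)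
  exact (EtKilled.killedBy_iff ℓ _).1 (killedBy_R ℓ ((EtKilled.killedBy_iff ℓ F).2 hF))

end

/-- **Prime-to-`ℓ` descent.** -/
theorem cd_of_coprime (K L : Type u) [Field K] [Field L] [Algebra K L] [FiniteDimensional K L]
    [Algebra.IsSeparable K L] {ℓ d : ℕ} (hℓ : ℓ.Prime) (hc : ¬ ℓ ∣ Module.finrank K L)
    (h : Cd L ℓ d) : Cd K ℓ d := by
  refine cd_of_killed hℓ fun F hF q hq => ?_
  obtain ⟨M, _, _, _, _, ⟨φ⟩, -⟩ := exists_galois (K := K) L L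
  let _ : Algebra L M := φ.toRingHom.toAlgebra
  have : IsScalarTower K L M := IsScalarTower.of_algebraMap_eq fun r => (φ.commutes r).symm
  obtain ⟨t, ht⟩ := exists_transfer (K := K) (L := K) (L' := L) (M := M)
  exact ExtMid.eq_zero_of_transfer _ t _ ht ℓ ((Nat.Prime.coprime_iff_not_dvd hℓ).2 hc).symm hF q
    (van_of_cd_ext L h F hF q hq)

/-- **Cyclic descent**: `E/K` is the bottom layer of a cyclic extension `M/K` with `[M:E]`
divisible by `ℓ`. -/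
theorem cd_of_cyclic (K E M : Type u) [Field K] [Field E] [Field M] [Algebra K E]
    [FiniteDimensional K E] [IsGalois K E] [Algebra K M] [FiniteDimensional K M] [IsGalois K M]
    (inc : E →ₐ[K] M) (s : E ≃ₐ[K] E) (σ : M ≃ₐ[K] M) (hs : ∀ y : E, σ (inc y) = inc (s y))
    (hσ : ∀ g : M ≃ₐ[K] M, ∃ i : ℕ, g = σ ^ i) {ℓ d : ℕ} (hℓ : ℓ.Prime)
    (hsg : ∀ g : E ≃ₐ[K] E, ∃ i : ℕ, g = s ^ i)
    (hord : orderOf σ = ℓ * orderOf s) (h : Cd E ℓ d) : Cd K ℓ d := by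
  refine cd_of_killed hℓ fun F hF q hq => ?_
  exact CycVan.van inc s σ hs hsg hσ ℓ hord hF q (van_of_cd_ext E h F hF q hq)
    (van_of_cd_ext E h F hF (q + 1) (by omega))

end Groth.Agent.Etbc.H201.CdField
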