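import Groth.Agent.CurvesA.EtFieldTr
import Groth.Agent.CurvesA.ExtMid
import Groth.Agent.Sga4h.TameFieldStep

/-!
# Descending vanishing along a cyclic extension of degree `ℓ` contained in one of degree `ℓ²`

If `E/K` is cyclic of degree `ℓ`, contained in `M/K` cyclic of degree `ℓ²`, `F` is an étale sheaf on
`Spec K` killed by `ℓ`, and `Ext^q(Z_E, F) = Ext^{q+1}(Z_E, F) = 0`, then `Ext^q(Z_K, F) = 0`.
-/

set_option autoImplicit false

universe w v u

open CategoryTheory Category Limits Opposite AlgebraicGeometry Abelian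
open Groth.Agent.CurvesA Groth.Agent.CurvesA.EtFieldObj Groth.Agent.CurvesA.EtFieldDesc
  Groth.Agent.CurvesA.EtFieldTr Groth.Agent.CurvesA.ExtMid

namespace Groth.Agent.Etbc.H201.CycVan

section Abstract

variable {𝒜 : Type u} [Category.{v} 𝒜] [Abelian 𝒜] [HasExt.{w} 𝒜]

open Groth.Agent.Sga4h.TameFieldStep

/-- The abstract vanishing step. -/
theorem van_step {Q Za Zb : 𝒜} {Da Na : Za ⟶ Za} {Db Nb : Zb ⟶ Zb} {εa : Za ⟶ Q} {εb : Zb ⟶ Q}
    (ca : Cyc Da Na εa) (cb : Cyc Db Nb εb) (p : Zb ⟶ Za) (hε : p ≫ εa = εb)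
    (hD : Db ≫ p = p ≫ Da) (m : ℕ) (hN : Nb ≫ p = m • (p ≫ Na)) {F : 𝒜} (hF : m • 𝟙 F = 0)
    (q : ℕ) (h0 : Van Za q F) (h1 : Van Za (q + 1) F) : Van Q q F := by
  intro e
  obtain ⟨u, hui, hud⟩ := exists_u ca cb p hε hD
  have ht := t_comp ca cb p m hε hN
  let φ : ShortComplex.mk cb.i εb cb.w₁ ⟶ ShortComplex.mk ca.i εa ca.w₁ :=
    { τ₁ := u, τ₂ := p, τ₃ := 𝟙 Q
      comm₁₂ := hui
      comm₂₃ := by simpa using hε }
  let ψ : ShortComplex.mk cb.t cb.d cb.w₂ ⟶ ShortComplex.mk ca.t ca.d ca.w₂ :=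
    { τ₁ := m • 𝟙 Q, τ₂ := p, τ₃ := u
      comm₁₂ := by
        change (m • 𝟙 Q) ≫ ca.t = cb.t ≫ p
        rw [ht, Preadditive.nsmul_comp, id_comp]
      comm₂₃ := hud.symm }
  have hme : m • e = 0 := by
    have h3 : ∀ n : ℕ, e.comp (Ext.mk₀ (n • 𝟙 F)) (add_zero q) = n • e := by
      intro n
      induction n with
      | zero => rw [zero_smul, zero_smul, Ext.mk₀_zero, Ext.comp_zero]
      | succ n ih => rw [succ_nsmul, succ_nsmul, Ext.mk₀_add, Ext.comp_add, ih, Ext.comp_mk₀_id]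
    rw [← h3, hF, Ext.mk₀_zero, Ext.comp_zero]
  have key1 : ∀ (z : Ext ca.I F (q + 1)), ca.h₁.extClass.comp z (by omega : 1 + (q + 1) = q + 2) =
      cb.h₁.extClass.comp (ExtStep.res u F (q + 1) z) (by omega : 1 + (q + 1) = q + 2) := by
    intro z
    have := extClass_comp_eq cb.h₁ ca.h₁ φ (by omega : 1 + (q + 1) = q + 2) z
    exact (Ext.mk₀_id_comp _).symm.trans this
  have key3 : ExtStep.res u F (q + 1) (ca.h₂.extClass.comp e (by omega : 1 + q = q + 1)) = 0 := by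
    have := extClass_comp_eq cb.h₂ ca.h₂ ψ (by omega : 1 + q = q + 1) e
    refine Eq.trans this ?_
    have h0 : ExtStep.res (m • 𝟙 Q) F q e = 0 := by rw [ExtStep.res_nsmul_id, hme]
    exact (congrArg (fun z => cb.h₂.extClass.comp z (by omega : 1 + q = q + 1)) h0).trans
      (Ext.comp_zero _ _ _ _ _)
  have hx : ca.h₁.extClass.comp (ca.h₂.extClass.comp e (by omega : 1 + q = q + 1))
      (by omega : 1 + (q + 1) = q + 2) = 0 := by
    rw [key1, key3, Ext.comp_zero]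
  obtain ⟨y, hy⟩ := Ext.contravariant_sequence_exact₁ ca.h₁ F _
    (by omega : 1 + (q + 1) = q + 2) hx
  have hy0 : ca.h₂.extClass.comp e (by omega : 1 + q = q + 1) = 0 := by
    rw [← hy, h1 y, Ext.comp_zero]
  obtain ⟨z, hz⟩ := Ext.contravariant_sequence_exact₁ ca.h₂ F _ (by omega : 1 + q = q + 1) hy0
  rw [← hz, h0 z, Ext.comp_zero]

end Abstract

section Field

open Groth.Agent.Sga4h

variable {K : Type u} [Field K] {E M : Type u} [Field E] [Algebra K E] [FiniteDimensional K E]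
  [IsGalois K E] [Field M] [Algebra K M] [FiniteDimensional K M] [IsGalois K M]
  (inc : E →ₐ[K] M) (s : E ≃ₐ[K] E) (σ : M ≃ₐ[K] M) (hs : ∀ y : E, σ (inc y) = inc (s y))

omit [IsGalois K M] [IsGalois K E] in
theorem sum_mod {G : Type*} [AddCommMonoid G] (f : ℕ → G) (n : ℕ) (hf : ∀ i, f (i + n) = f i)
    (m : ℕ) : ∑ i ∈ Finset.range (m * n), f i = m • ∑ i ∈ Finset.range n, f i := by
  have hf' : ∀ j i, f (i + j * n) = f i := by
    intro j
    induction j with
    | zero => intro i; simp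
    | succ j ih => intro i; rw [Nat.succ_mul, ← add_assoc, hf, ih]
  induction m with
  | zero => simp
  | succ m ih =>
    rw [Nat.succ_mul, Finset.sum_range_add, ih, succ_nsmul]
    congr 1
    exact Finset.sum_congr rfl fun i _ => by rw [add_comm, hf']

include hs in
theorem aut_p : aut (K := K) σ ≫ etMap inc = etMap inc ≫ aut (K := K) s := by
  rw [aut, aut, ← etMap_comp, ← etMap_comp]
  congr 1
  exact AlgHom.ext fun x => hs x

include hs in
theorem aut_pow_p (i : ℕ) :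
    aut (K := K) (σ ^ i) ≫ etMap inc = etMap inc ≫ aut (K := K) (s ^ i) := by
  induction i with
  | zero => rw [pow_zero, pow_zero, aut_one, aut_one, id_comp, comp_id]
  | succ i ih =>
    rw [pow_succ, aut_mul, assoc, aut_p inc s σ hs, ← assoc, ih, assoc, ← aut_mul, ← pow_succ]

include hs in
theorem D_p : EtFieldCyc.D (K := K) σ ≫ Zm (etMap inc) =
    Zm (etMap inc) ≫ EtFieldCyc.D (K := K) s := by
  rw [EtFieldCyc.D, EtFieldCyc.D, Preadditive.sub_comp, Preadditive.comp_sub, id_comp, comp_id,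
    ← Functor.map_comp, ← Functor.map_comp, aut_p inc s σ hs]

include hs in
theorem N_p (m : ℕ) (hord : orderOf σ = m * orderOf s) :
    EtFieldCyc.Nm (K := K) σ ≫ Zm (etMap inc) =
      m • (Zm (etMap inc) ≫ EtFieldCyc.Nm (K := K) s) := by
  rw [EtFieldCyc.Nm, EtFieldCyc.Nm, Preadditive.sum_comp, Preadditive.comp_sum, hord]
  have h1 : ∀ i ∈ Finset.range (m * orderOf s),
      Zm (aut (K := K) (σ ^ i)) ≫ Zm (etMap inc) =
        Zm (etMap inc) ≫ Zm (aut (K := K) (s ^ i)) := by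
    intro i _
    rw [← Functor.map_comp, ← Functor.map_comp, aut_pow_p inc s σ hs]
  rw [Finset.sum_congr rfl h1]
  refine sum_mod _ _ (fun i => ?_) _
  rw [pow_add, pow_orderOf_eq_one, mul_one]

theorem exists_cyc (hσ : ∀ g : M ≃ₐ[K] M, ∃ i : ℕ, g = σ ^ i) :
    Nonempty (TameFieldStep.Cyc (EtFieldCyc.D (K := K) σ) (EtFieldCyc.Nm (K := K) σ)
      (Zm (can K K M))) :=
  TameFieldStep.exists_cyc _ _ _ (EtFieldCyc.D_can σ) (EtFieldCyc.exact_D_can σ hσ)
    (EtFieldCyc.D_Nm σ).1 (EtFieldCyc.exact_D_Nm σ) (EtFieldCyc.D_Nm σ).2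
    (EtFieldCyc.exact_Nm_D σ)

include hs in
/-- The key vanishing: descent along the bottom layer of a cyclic extension. -/
theorem van (hsg : ∀ g : E ≃ₐ[K] E, ∃ i : ℕ, g = s ^ i) (hσ : ∀ g : M ≃ₐ[K] M, ∃ i : ℕ, g = σ ^ i)
    (m : ℕ) (hord : orderOf σ = m * orderOf s) {F : EtCoh.Ab (Spec (CommRingCat.of K))}
    (hF : m • 𝟙 F = 0) (q : ℕ) (h0 : Van (ZL K E) q F) (h1 : Van (ZL K E) (q + 1) F) :
    Van (ZL K K) q F := by
  obtain ⟨ca⟩ := exists_cyc s hsg
  obtain ⟨cb⟩ := exists_cyc σ hσ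
  refine van_step ca cb (Zm (etMap inc)) ?_ (D_p inc s σ hs) m (N_p inc s σ hs m hord) hF q h0 h1
  rw [← Functor.map_comp, ← etMap_comp]
  congr 2
  exact AlgHom.ext fun y => inc.commutes y

end Field

end Groth.Agent.Etbc.H201.CycVan
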