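import Groth.Agent.Etbc.H201.Kummer
import Mathlib.FieldTheory.Galois.Abelian
import Mathlib.NumberTheory.Cyclotomic.Gal
import Mathlib.RingTheory.ZMod.UnitsCyclic

/-!
# Serre's theorem for fields, `ℓ` odd
-/

set_option autoImplicit false

universe u

open Polynomial IntermediateField

namespace Groth.Agent.Etbc.H201.Cyclo

open Groth.Agent.Etbc.H201.CdField Groth.Agent.Etbc.H201.Tower

/-- An `ℓ`-th root of a primitive `ℓ`-th root of unity is a primitive `ℓ²`-th root of unity. -/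
theorem isPrimitiveRoot_sq {M : Type*} [CommMonoid M] {ℓ : ℕ} (hℓ : ℓ.Prime) {ζ b : M}
    (hζ : IsPrimitiveRoot ζ ℓ) (hb : b ^ ℓ = ζ) : IsPrimitiveRoot b (ℓ * ℓ) := by
  have h1 : b ^ (ℓ * ℓ) = 1 := by rw [pow_mul, hb, hζ.pow_eq_one]
  have h2 : orderOf b ∣ ℓ ^ 2 := by rw [sq]; exact orderOf_dvd_of_pow_eq_one h1
  have h3 : ¬ orderOf b ∣ ℓ ^ 1 := by
    rw [pow_one, orderOf_dvd_iff_pow_eq_one, hb]
    intro h
    exact hℓ.one_lt.ne' (Nat.dvd_one.1 (hζ.dvd_of_pow_eq_one 1 (by rw [pow_one, h])))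
  obtain ⟨k, hk, hk'⟩ := (Nat.dvd_prime_pow hℓ).1 h2
  obtain rfl : k = 2 := by
    rcases Nat.lt_or_ge k 2 with h | h
    · exact absurd (hk' ▸ pow_dvd_pow ℓ (by omega : k ≤ 1)) h3
    · omega
  rw [sq] at hk'
  rw [← hk']
  exact IsPrimitiveRoot.orderOf b

section

variable {K : Type u} [Field K] {ℓ d : ℕ}

/-- The cyclotomic step for `ℓ` odd. -/
theorem sc_of_odd (hℓ : ℓ.Prime) (h2 : ℓ ≠ 2) (hK : (ℓ : K) ≠ 0) {ζ : K}
    (hζ : IsPrimitiveRoot ζ ℓ) : SC K ℓ d := by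
  have hℓ0 := hℓ.pos
  by_cases hz : ∃ b : K, b ^ ℓ = ζ
  · obtain ⟨b, hb⟩ := hz
    exact Kummer.sc_of_isPrimitiveRoot hℓ (isPrimitiveRoot_sq hℓ hζ hb)
  push Not at hz
  have hne : NeZero ((ℓ ^ 3 : ℕ) : K) := ⟨by rw [Nat.cast_pow]; exact pow_ne_zero 3 hK⟩
  have hne' : NeZero (ℓ ^ 3) := ⟨pow_ne_zero 3 hℓ.ne_zero⟩
  let M := CyclotomicField (ℓ ^ 3) K
  have hcyc : IsCyclotomicExtension {ℓ ^ 3} K M := inferInstance
  have hgal : IsGalois K M := IsCyclotomicExtension.isGalois {ℓ ^ 3} K M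
  have hfin : FiniteDimensional K M := IsCyclotomicExtension.finiteDimensional {ℓ ^ 3} K M
  let ξ : M := IsCyclotomicExtension.zeta (ℓ ^ 3) K M
  have hξ : IsPrimitiveRoot ξ (ℓ ^ 3) := IsCyclotomicExtension.zeta_spec (ℓ ^ 3) K M
  -- the Galois group is cyclic
  have hc1 : IsCyclic (ZMod (ℓ ^ 3))ˣ := ZMod.isCyclic_units_of_prime_pow ℓ hℓ h2 3
  have hc : IsCyclic (M ≃ₐ[K] M) :=
    isCyclic_of_injective (hξ.autToPow K) (hξ.autToPow_injective (K := K))
  have hab : IsAbelianGalois K M :=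
    { hgal with is_comm := ⟨fun x y => (IsCyclic.commGroup (α := M ≃ₐ[K] M)).mul_comm x y⟩ }
  -- `ξ^(ℓ²)` is a power of `ζ`
  have hξ2 : IsPrimitiveRoot (ξ ^ (ℓ * ℓ)) ℓ :=
    hξ.pow (Nat.pow_pos hℓ0) (by ring)
  have hζM : IsPrimitiveRoot (algebraMap K M ζ) ℓ := hζ.map_of_injective (algebraMap K M).injective
  have hNZ : NeZero ℓ := ⟨hℓ.ne_zero⟩
  obtain ⟨j, -, hj⟩ := hζM.eq_pow_of_pow_eq_one hξ2.pow_eq_one
  let c : K := ζ ^ j
  have hc' : ξ ^ (ℓ * ℓ) = algebraMap K M c := by rw [← hj, map_pow]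
  have hcpow : ∀ b : K, b ^ ℓ ≠ c := by
    intro b hb
    have h1 : IsPrimitiveRoot (ζ ^ j) ℓ := by
      have h0 : IsPrimitiveRoot (algebraMap K M (ζ ^ j)) ℓ := by rw [map_pow, hj]; exact hξ2
      exact h0.of_map_of_injective (algebraMap K M).injective
    obtain ⟨j', -, hj'⟩ := h1.eq_pow_of_pow_eq_one hζ.pow_eq_one
    refine hz (b ^ j') ?_
    rw [← pow_mul, mul_comm, pow_mul, hb, hj']
  -- degrees
  have hirr2 : Irreducible (X ^ (ℓ * ℓ) - C c : K[X]) :=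
    KumIrr.irreducible_sq hℓ hcpow fun h => absurd h h2
  have hirr1 : Irreducible (X ^ ℓ - C c : K[X]) := X_pow_sub_C_irreducible_of_prime hℓ hcpow
  have htop : K⟮ξ⟯ = ⊤ := by
    have := hcyc.adjoin_primitive_root_eq_top hξ
    rw [eq_top_iff]
    intro x _
    have h1 : x ∈ Algebra.adjoin K {ξ} := by rw [this]; trivial
    exact IntermediateField.algebra_adjoin_le_adjoin K _ h1
  have hmin2 : minpoly K ξ = X ^ (ℓ * ℓ) - C c := by
    refine (minpoly.eq_of_irreducible_of_monic hirr2 ?_ (monic_X_pow_sub_C c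
      (Nat.mul_pos hℓ0 hℓ0).ne')).symm
    simp [hc']
  have hfinrank : Module.finrank K M = ℓ * ℓ := by
    rw [← IntermediateField.finrank_top', ← htop, IntermediateField.adjoin.finrank
      (IsIntegral.of_finite K ξ), hmin2, natDegree_X_pow_sub_C]
  let E : IntermediateField K M := K⟮ξ ^ ℓ⟯
  have hmin1 : minpoly K (ξ ^ ℓ) = X ^ ℓ - C c := by
    refine (minpoly.eq_of_irreducible_of_monic hirr1 ?_ (monic_X_pow_sub_C c hℓ0.ne')).symm
    simp [← hc', ← pow_mul]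
  have hEdeg : Module.finrank K E = ℓ := by
    rw [IntermediateField.adjoin.finrank (IsIntegral.of_finite K _), hmin1, natDegree_X_pow_sub_C]
  have hEM : Module.finrank E M = ℓ := by
    have h4 := Module.finrank_mul_finrank K E M
    rw [hEdeg, hfinrank] at h4
    exact Nat.eq_of_mul_eq_mul_left hℓ0 h4
  have hEgal : IsGalois K E := inferInstance
  have hζ2 : IsPrimitiveRoot (⟨ξ ^ ℓ, IntermediateField.mem_adjoin_simple_self K _⟩ : E) (ℓ * ℓ) := by
    have h5 : IsPrimitiveRoot (algebraMap E M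
        (⟨ξ ^ ℓ, IntermediateField.mem_adjoin_simple_self K _⟩ : E)) (ℓ * ℓ) :=
      hξ.pow (Nat.pow_pos hℓ0) (by ring)
    exact h5.of_map_of_injective (algebraMap E M).injective
  refine SC.of_ext hℓ E (Kummer.sc_of_isPrimitiveRoot hℓ hζ2) fun hE => ?_
  exact cd_of_isCyclic K E M hℓ hEM hE

/-- **Serre's theorem for fields, `ℓ` odd.** -/
theorem sc_odd (hℓ : ℓ.Prime) (h2 : ℓ ≠ 2) (hK : (ℓ : K) ≠ 0) : SC K ℓ d := by
  have hne : NeZero ((ℓ : ℕ) : K) := ⟨hK⟩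
  have hNZ : NeZero ℓ := ⟨hℓ.ne_zero⟩
  let M := CyclotomicField ℓ K
  have hcyc : IsCyclotomicExtension {ℓ} K M := inferInstance
  have hgal : IsGalois K M := IsCyclotomicExtension.isGalois {ℓ} K M
  have hfin : FiniteDimensional K M := IsCyclotomicExtension.finiteDimensional {ℓ} K M
  let ξ : M := IsCyclotomicExtension.zeta ℓ K M
  have hξ : IsPrimitiveRoot ξ ℓ := IsCyclotomicExtension.zeta_spec ℓ K M
  have hM : (ℓ : M) ≠ 0 := by
    rw [← map_natCast (algebraMap K M)]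
    exact (_root_.map_ne_zero _).2 hK
  refine SC.of_ext hℓ M (sc_of_odd hℓ h2 hM hξ) fun h => ?_
  refine cd_of_coprime K M hℓ ?_ h
  have h1 : Module.finrank K M = (minpoly K ξ).natDegree := by
    rw [(hξ.powerBasis K).finrank, IsPrimitiveRoot.powerBasis_dim]
  have h3 : (minpoly K ξ).natDegree ≤ ℓ - 1 := by
    rw [← Nat.totient_prime hℓ, ← natDegree_cyclotomic ℓ K]
    refine natDegree_le_of_dvd (minpoly.dvd K ξ ?_) (cyclotomic_ne_zero ℓ K)
    have h4 := hξ.isRoot_cyclotomic hℓ.pos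
    rw [IsRoot.def, ← map_cyclotomic ℓ (algebraMap K M), eval_map_algebraMap] at h4
    exact h4
  intro hd
  have h5 := Nat.le_of_dvd Module.finrank_pos hd
  have := hℓ.one_lt
  omega

end

end Groth.Agent.Etbc.H201.Cyclo
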