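import Groth.Agent.Etbc.H201.Tower

/-!
# Periodicity: a field of finite `cd_ℓ` has `cd_ℓ(K) ≤ cd_ℓ(E)` for a cyclic extension `E/K`
-/

set_option autoImplicit false

universe w v u

open CategoryTheory Category Limits Opposite AlgebraicGeometry Abelian
open Groth.Agent.CurvesA Groth.Agent.CurvesA.EtFieldObj Groth.Agent.CurvesA.EtFieldDesc
  Groth.Agent.CurvesA.EtFieldTr Groth.Agent.CurvesA.ExtMid

namespace Groth.Agent.Etbc.H201.Periodic

section Abstract

variable {𝒜 : Type u} [Category.{v} 𝒜] [Abelian 𝒜] [HasExt.{w} 𝒜]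

open Groth.Agent.Sga4h.TameFieldStep

theorem van_of_add_two {Q Za : 𝒜} {Da Na : Za ⟶ Za} {εa : Za ⟶ Q} (ca : Cyc Da Na εa) {F : 𝒜}
    (q : ℕ) (h0 : Van Za q F) (h1 : Van Za (q + 1) F) (h2 : Van Q (q + 2) F) : Van Q q F := by
  intro e
  have hx : ca.h₁.extClass.comp (ca.h₂.extClass.comp e (by omega : 1 + q = q + 1))
      (by omega : 1 + (q + 1) = q + 2) = 0 := h2 _
  obtain ⟨y, hy⟩ := Ext.contravariant_sequence_exact₁ ca.h₁ F _
    (by omega : 1 + (q + 1) = q + 2) hx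
  have hy0 : ca.h₂.extClass.comp e (by omega : 1 + q = q + 1) = 0 := by
    rw [← hy, h1 y, Ext.comp_zero]
  obtain ⟨z, hz⟩ := Ext.contravariant_sequence_exact₁ ca.h₂ F _ (by omega : 1 + q = q + 1) hy0
  rw [← hz, h0 z, Ext.comp_zero]

end Abstract

open Groth.Agent.Etbc.H201.CdField Groth.Agent.Etbc.H201.CycVan

/-- **Periodicity**: for `E/K` cyclic, `cd_ℓ(E) ≤ e` and `cd_ℓ(K) < ∞` give `cd_ℓ(K) ≤ e`. -/
theorem cd_periodic (K E : Type u) [Field K] [Field E] [Algebra K E] [FiniteDimensional K E]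
    [IsGalois K E] [hc : IsCyclic (E ≃ₐ[K] E)] {ℓ e d : ℕ} (hℓ : ℓ.Prime) (hE : Cd E ℓ e)
    (hK : Cd K ℓ d) : Cd K ℓ e := by
  obtain ⟨σ, hσ⟩ := hc.exists_generator
  have hσ' : ∀ g : E ≃ₐ[K] E, ∃ i : ℕ, g = σ ^ i := fun g => by
    obtain ⟨i, hi⟩ := (isOfFinOrder_of_finite σ).mem_powers_iff_mem_zpowers.2 (hσ g)
    exact ⟨i, hi.symm⟩
  obtain ⟨ca⟩ := exists_cyc σ hσ'
  refine cd_of_killed hℓ fun F hF q hq => ?_
  have key : ∀ j q : ℕ, e < q → d < q + 2 * j → Van (ZL K K) q F := by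
    intro j
    induction j with
    | zero => intro q _ hd; exact van_of_cd hK F hF q (by omega)
    | succ j ih =>
      intro q hq hd
      exact van_of_add_two ca q (van_of_cd_ext E hE F hF q hq)
        (van_of_cd_ext E hE F hF (q + 1) (by omega)) (ih (q + 2) (by omega) (by omega))
  exact key (d + 1) q hq (by omega)

end Groth.Agent.Etbc.H201.Periodic
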