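import Groth.Agent.Etbc.H201.CdField
import Groth.Agent.S0642
import Groth.Agent.Pi1B.SectionDesc
import Groth.Agent.Etcore.Torsion
import Groth.Agent.EtpbcA.CdEtLeray
import Mathlib.FieldTheory.PurelyInseparable.Basic

/-!
# `cd_ℓ` and purely inseparable extensions
-/

set_option autoImplicit false

universe u

open CategoryTheory Category Limits Opposite AlgebraicGeometry Abelian
open Groth.Agent.CurvesA

namespace Groth.Agent.Etbc.H201.Insep

open Groth.Agent.Etbc.H201.CdField

/-- `cd_ℓ(L) ≤ d` implies `cd_ℓ(K) ≤ d` for `L/K` purely inseparable. -/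
theorem cd_of_isPurelyInseparable (K L : Type u) [Field K] [Field L] [Algebra K L]
    [IsPurelyInseparable K L] {ℓ d : ℕ} (hℓ : ℓ.Prime) (h : Cd L ℓ d) : Cd K ℓ d := by
  refine cd_of_killed hℓ fun F hF q hq x => ?_
  let i : Spec (CommRingCat.of L) ⟶ Spec (CommRingCat.of K) :=
    Spec.map (CommRingCat.ofHom (algebraMap K L))
  have hi1 : IsIntegralHom i := by
    rw [IsIntegralHom.SpecMap_iff]
    change (algebraMap K L).IsIntegral
    exact algebraMap_isIntegral_iff.2 inferInstance
  have hi2 : UniversallyInjective i :=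
    Groth.Agent.Pi1B.SectionDesc.universallyInjective_spec_map K L
  have hi3 : Surjective i := ⟨fun x => ⟨default, Subsingleton.elim (α := PrimeSpectrum K) _ _⟩⟩
  have h1 := h _ (isPrimaryTorsion_of_killedBy (Groth.Agent.Etcore.Torsion.killedBy_pull ℓ i F
    ((EtKilled.killedBy_iff ℓ F).2 hF))) q hq
  have h2 : Subsingleton (EtCoh.H (Spec (CommRingCat.of K)) F q) :=
    (Groth.Agent.S0642.result i F q).injective.subsingleton
  exact (EtFieldH.HEquiv F q).symm.injective (Subsingleton.elim _ _)

end Groth.Agent.Etbc.H201.Insep
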