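import Mathlib.FieldTheory.KummerExtension
import Mathlib.RingTheory.Norm.Basic
import Mathlib.RingTheory.ZMod.UnitsCyclic
import Mathlib.NumberTheory.Cyclotomic.Gal

/-!
# Kummer extensions of degree `ℓ` inside cyclic extensions of degree `ℓ²`
-/

set_option autoImplicit false

universe u

open Polynomial IntermediateField

namespace Groth.Agent.Etbc.H201.KumIrr

variable {K : Type u} [Field K]

/-- `X^(ℓ·ℓ) - a` is irreducible if `a` is not an `ℓ`-th power and (`ℓ` is odd or `-1` is a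
square). -/
theorem irreducible_sq {ℓ : ℕ} (hℓ : ℓ.Prime) {a : K} (ha : ∀ b : K, b ^ ℓ ≠ a)
    (h2 : ℓ = 2 → ∃ i : K, i ^ 2 = -1) : Irreducible (X ^ (ℓ * ℓ) - C a : K[X]) := by
  apply X_pow_mul_sub_C_irreducible (X_pow_sub_C_irreducible_of_prime hℓ ha)
  intro E _ _ x hx
  have hint : IsIntegral K x := not_not.mp fun h ↦ by
    simpa only [degree_zero, degree_X_pow_sub_C hℓ.pos,
      WithBot.natCast_ne_bot] using congr_arg degree (hx.symm.trans (dif_neg h))
  refine X_pow_sub_C_irreducible_of_prime hℓ fun b hb => ?_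
  have hN : (Algebra.norm K b) ^ ℓ = (-1) ^ ℓ * (-a) := by
    rw [← map_pow, hb, ← adjoin.powerBasis_gen hint,
      Algebra.PowerBasis.norm_gen_eq_coeff_zero_minpoly]
    simp [minpoly_gen, hx, hℓ.ne_zero.symm]
  rcases hℓ.eq_two_or_odd' with rfl | hodd
  · obtain ⟨i, hi⟩ := h2 rfl
    refine ha (i * Algebra.norm K b) ?_
    rw [mul_pow, hN, hi]
    ring
  · refine ha (Algebra.norm K b) ?_
    rw [hN, hodd.neg_one_pow]
    ring

end Groth.Agent.Etbc.H201.KumIrr
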