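import Groth.Agent.Etbc.H201.Tower
import Groth.Agent.Etbc.H201.KumIrr
import Groth.Agent.CurvesA.GalStep

/-!
# Serre's theorem for fields containing the `ℓ²`-th roots of unity
-/

set_option autoImplicit false

universe u

open Polynomial IntermediateField
open Groth.Agent.CurvesA.EtFieldObj

namespace Groth.Agent.Etbc.H201.Kummer

open Groth.Agent.Etbc.H201.CdField Groth.Agent.Etbc.H201.Tower

/-- The Kummer step. -/
theorem kummer_step (K M : Type u) [Field K] [Field M] [Algebra K M] [FiniteDimensional K M]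
    [IsGalois K M] {ℓ d : ℕ} (hℓ : ℓ.Prime) (hdeg : Module.finrank K M = ℓ) {ζ : K}
    (hζ : IsPrimitiveRoot ζ (ℓ * ℓ)) (h : Cd M ℓ d) : Cd K ℓ d := by
  have hℓ0 : 0 < ℓ := hℓ.pos
  have hζℓ : IsPrimitiveRoot (ζ ^ ℓ) ℓ := hζ.pow (Nat.mul_pos hℓ0 hℓ0) rfl
  have hcard : Nat.card (M ≃ₐ[K] M) = ℓ := by rw [IsGalois.card_aut_eq_finrank, hdeg]
  have hfact : Fact ℓ.Prime := ⟨hℓ⟩
  have hcyc : IsCyclic (M ≃ₐ[K] M) := isCyclic_of_prime_card hcard
  have hne : (primitiveRoots (Module.finrank K M) K).Nonempty :=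
    ⟨ζ ^ ℓ, by rw [hdeg, mem_primitiveRoots hℓ0]; exact hζℓ⟩
  obtain ⟨α, ⟨a, ha⟩, hα⟩ := exists_root_adjoin_eq_top_of_isCyclic K M hne
  have hirr := irreducible_X_pow_sub_C_of_root_adjoin_eq_top ha.symm hα
  have hsp := isSplittingField_X_pow_sub_C_of_root_adjoin_eq_top hne ha.symm hα
  rw [hdeg] at hirr hsp
  have hpow : ∀ b : K, b ^ ℓ ≠ a := fun b =>
    pow_ne_of_irreducible_X_pow_sub_C hirr dvd_rfl hℓ.ne_one b
  have hirr2 : Irreducible (X ^ (ℓ * ℓ) - C a : K[X]) := KumIrr.irreducible_sq hℓ hpow fun h2 => by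
    subst h2
    refine ⟨ζ, ?_⟩
    exact (hζ.pow (by norm_num) (by norm_num : 2 * 2 = 2 * 2)).eq_neg_one_of_two_right
  let M₂ := (X ^ (ℓ * ℓ) - C a : K[X]).SplittingField
  have hne2 : (primitiveRoots (ℓ * ℓ) K).Nonempty :=
    ⟨ζ, by rw [mem_primitiveRoots (Nat.mul_pos hℓ0 hℓ0)]; exact hζ⟩
  have : NeZero (ℓ * ℓ) := ⟨(Nat.mul_pos hℓ0 hℓ0).ne'⟩
  have h1 : IsCyclic (M₂ ≃ₐ[K] M₂) := isCyclic_of_isSplittingField_X_pow_sub_C hne2 hirr2 M₂
  have h2 : IsGalois K M₂ := isGalois_of_isSplittingField_X_pow_sub_C hne2 hirr2 M₂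
  have h3 : Module.finrank K M₂ = ℓ * ℓ := finrank_of_isSplittingField_X_pow_sub_C hne2 hirr2 M₂
  -- embed `M` in `M₂`
  obtain ⟨β, hβ⟩ : ∃ β : M₂, β ^ (ℓ * ℓ) = algebraMap K M₂ a := by
    obtain ⟨β, hβ⟩ := (SplittingField.splits (X ^ (ℓ * ℓ) - C a : K[X])).exists_eval_eq_zero (by
      rw [degree_map, degree_X_pow_sub_C (Nat.mul_pos hℓ0 hℓ0)]
      exact_mod_cast (Nat.mul_pos hℓ0 hℓ0).ne')
    refine ⟨β, ?_⟩
    simpa [sub_eq_zero] using hβ
  have hsplit : ((X ^ ℓ - C a : K[X]).map (algebraMap K M₂)).Splits := by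
    rw [Polynomial.map_sub, Polynomial.map_pow, map_X, map_C]
    refine X_pow_sub_C_splits_of_isPrimitiveRoot
      (hζℓ.map_of_injective (algebraMap K M₂).injective) (α := β ^ ℓ) ?_
    rw [← pow_mul, hβ]
  let φ : M →ₐ[K] M₂ := IsSplittingField.lift M (X ^ ℓ - C a) hsplit
  let _ : Algebra M M₂ := φ.toRingHom.toAlgebra
  have : IsScalarTower K M M₂ := IsScalarTower.of_algebraMap_eq fun r => (φ.commutes r).symm
  have : FiniteDimensional K M₂ := inferInstance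
  refine cd_of_isCyclic K M M₂ hℓ ?_ h
  have h4 := Module.finrank_mul_finrank K M M₂
  rw [hdeg, h3] at h4
  exact Nat.eq_of_mul_eq_mul_left hℓ0 h4

/-- Dévissage along Galois extensions of `ℓ`-power degree. -/
theorem cd_of_card_pow {ℓ d : ℕ} (hℓ : ℓ.Prime) (n : ℕ) :
    ∀ (E M : Type u) [Field E] [Field M] [Algebra E M] [FiniteDimensional E M] [IsGalois E M]
      (_ : Nat.card (M ≃ₐ[E] M) = ℓ ^ n) (ζ : E) (_ : IsPrimitiveRoot ζ (ℓ * ℓ)) (_ : Cd M ℓ d),
      Cd E ℓ d := by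
  induction n with
  | zero =>
    intro E M _ _ _ _ _ hcard ζ hζ h
    refine cd_of_finrank_one E M hℓ ?_ h
    rw [← IsGalois.card_aut_eq_finrank, hcard, pow_zero]
  | succ n ih =>
    intro E M _ _ _ _ _ hcard ζ hζ h
    obtain ⟨E', hgal, hcard', hfin, -⟩ :=
      Groth.Agent.CurvesA.GalStep.exists_central_field E M ℓ hℓ n hcard
    have hgal' : IsGalois E' M := inferInstance
    have : FiniteDimensional E E' := inferInstance
    refine ih E E' hcard' ζ hζ ?_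
    exact kummer_step E' M hℓ hfin (hζ.map_of_injective (algebraMap E E').injective) h

/-- **Serre's theorem for fields containing the `ℓ²`-th roots of unity.** -/
theorem sc_of_isPrimitiveRoot {K : Type u} [Field K] {ℓ d : ℕ} (hℓ : ℓ.Prime) {ζ : K}
    (hζ : IsPrimitiveRoot ζ (ℓ * ℓ)) : SC K ℓ d := by
  intro L _ _ _ _ hL
  obtain ⟨N, _, _, _, _, ⟨φ⟩, -⟩ := exists_galois (K := K) L L
  have hN : Cd N ℓ d := by
    let _ : Algebra L N := φ.toRingHom.toAlgebra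
    have : IsScalarTower K L N := IsScalarTower.of_algebraMap_eq fun r => (φ.commutes r).symm
    have : FiniteDimensional L N := FiniteDimensional.right K L N
    exact Groth.Agent.Etbc.H205.AlgExt.cohDimLEAt_of_algebraic L N hℓ.ne_zero d hL
  obtain ⟨L', ⟨n, hn⟩, hdvd⟩ := Groth.Agent.CurvesA.GalStep.exists_sylow_field K N ℓ hℓ
  refine cd_of_coprime K L' hℓ hdvd ?_
  exact cd_of_card_pow hℓ n L' N hn (algebraMap K L' ζ)
    (hζ.map_of_injective (algebraMap K L').injective) hN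

end Groth.Agent.Etbc.H201.Kummer
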