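import Groth.Agent.Etbc.H201.Kummer
import Groth.Agent.Etbc.H205.Ordering
import Mathlib.FieldTheory.Galois.Basic
import Mathlib.FieldTheory.IsSepClosed
import Mathlib.FieldTheory.Normal.Closure

/-!
# Serre's theorem for fields, `ℓ = 2`: if `a = 1 + x²` is not a square, `K(√a)` is contained in the
cyclic quartic extension `K(√(a + √a))`
-/

set_option autoImplicit false

universe u

open Polynomial IntermediateField

namespace Groth.Agent.Etbc.H201.Quartic

open Groth.Agent.Etbc.H201.CdField Groth.Agent.Etbc.H201.Tower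

section Galois

variable {K Ω : Type u} [Field K] [Field Ω] [Algebra K Ω] [IsGalois K Ω]

/-- The quadratic layer. -/
theorem isGalois_quad {a : K} {r : Ω} (hr : r ^ 2 = algebraMap K Ω a) : IsGalois K K⟮r⟯ := by
  have hconj : ∀ τ : Ω →ₐ[K] Ω, τ r = r ∨ τ r = -r := by
    intro τ
    have h1 : (τ r) ^ 2 = r ^ 2 := by rw [← map_pow, hr, AlgHom.commutes]
    exact sq_eq_sq_iff_eq_or_eq_neg.1 h1
  have hn : Normal K K⟮r⟯ := by
    rw [IntermediateField.normal_iff_forall_map_le]
    intro τ
    rw [IntermediateField.adjoin_map, Set.image_singleton, IntermediateField.adjoin_simple_le_iff]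
    rcases hconj τ with h | h
    · rw [h]; exact mem_adjoin_simple_self K r
    · rw [h]; exact neg_mem (mem_adjoin_simple_self K r)
  exact { }

variable {a x : K} {r θ : Ω} (hx : a = 1 + x ^ 2) (hr : r ^ 2 = algebraMap K Ω a)
  (hθ : θ ^ 2 = algebraMap K Ω a + r) (hθ0 : θ ≠ 0)

include hx hr in
omit [IsGalois K Ω] in
theorem xr_sq : (algebraMap K Ω x * r) ^ 2 = (algebraMap K Ω a + r) * (algebraMap K Ω a - r) := by
  have h1 : (algebraMap K Ω a + r) * (algebraMap K Ω a - r) =
      algebraMap K Ω a ^ 2 - r ^ 2 := by ring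
  rw [h1, mul_pow, hr, ← map_pow, ← map_pow, ← map_mul, ← map_sub, hx]
  congr 1
  ring

include hθ in
omit [IsGalois K Ω] in
theorem r_mem : r ∈ K⟮θ⟯ := by
  have h1 : r = θ ^ 2 - algebraMap K Ω a := by rw [hθ]; ring
  rw [h1]
  exact sub_mem (pow_mem (mem_adjoin_simple_self K θ) 2) (K⟮θ⟯.algebraMap_mem a)

include hx hr hθ hθ0 in
/-- The quartic layer. -/
theorem isGalois_quartic : IsGalois K K⟮θ⟯ := by
  have hconj : ∀ τ : Ω →ₐ[K] Ω, τ r = r ∨ τ r = -r := by
    intro τ
    have h1 : (τ r) ^ 2 = r ^ 2 := by rw [← map_pow, hr, AlgHom.commutes]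
    exact sq_eq_sq_iff_eq_or_eq_neg.1 h1
  have hxr := xr_sq hx hr
  have hn : Normal K K⟮θ⟯ := by
    rw [IntermediateField.normal_iff_forall_map_le]
    intro τ
    rw [IntermediateField.adjoin_map, Set.image_singleton, IntermediateField.adjoin_simple_le_iff]
    have hτ : (τ θ) ^ 2 = algebraMap K Ω a + τ r := by
      rw [← map_pow, hθ, map_add, AlgHom.commutes]
    rcases hconj τ with h | h
    · rw [h, ← hθ] at hτ
      rcases sq_eq_sq_iff_eq_or_eq_neg.1 hτ with h' | h'
      · rw [h']; exact mem_adjoin_simple_self K θ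
      · rw [h']; exact neg_mem (mem_adjoin_simple_self K θ)
    · have h4 : algebraMap K Ω a + r ≠ 0 := by rw [← hθ]; exact pow_ne_zero 2 hθ0
      have h3 : (τ θ) ^ 2 = (algebraMap K Ω x * r / θ) ^ 2 := by
        rw [hτ, h, div_pow, hxr, hθ, mul_div_cancel_left₀ _ h4, sub_eq_add_neg]
      have h5 : algebraMap K Ω x * r / θ ∈ K⟮θ⟯ :=
        div_mem (mul_mem (K⟮θ⟯.algebraMap_mem x) (r_mem hθ)) (mem_adjoin_simple_self K θ)
      rcases sq_eq_sq_iff_eq_or_eq_neg.1 h3 with h' | h'
      · rw [h']; exact h5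
      · rw [h']; exact neg_mem h5
  exact { }

include hr hθ in
/-- The degree of the quartic layer is at most 4. -/
theorem finrank_le : Module.finrank K K⟮θ⟯ ≤ 4 := by
  have hθI : IsIntegral K θ := Algebra.IsIntegral.isIntegral θ
  rw [IntermediateField.adjoin.finrank hθI]
  have h1 : aeval θ ((X ^ 2 - C a) ^ 2 - C a : K[X]) = 0 := by
    have h2 : θ ^ 2 - algebraMap K Ω a = r := by rw [hθ]; ring
    simp only [map_sub, map_pow, aeval_X, aeval_C, h2, hr, sub_self]
  have h3 : ((X ^ 2 - C a) ^ 2 - C a : K[X]).Monic := by monicity!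
  refine (natDegree_le_of_dvd (minpoly.dvd K θ h1) h3.ne_zero).trans ?_
  compute_degree

end Galois

section Cyclic

variable {K M : Type u} [Field K] [Field M] [Algebra K M] [FiniteDimensional K M] [IsGalois K M]

/-- The Galois group of the quartic layer is cyclic of order 4. -/
theorem card_and_isCyclic (hK : (2 : K) ≠ 0) {a x : K} {rM θM : M} (hx : a = 1 + x ^ 2)
    (hrM2 : rM ^ 2 = algebraMap K M a) (hθM2 : θM ^ 2 = algebraMap K M a + rM) (hθM0 : θM ≠ 0)
    (hrK : ∀ c : K, rM ≠ algebraMap K M c) (hdeg : Module.finrank K M ≤ 4) :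
    Nat.card (M ≃ₐ[K] M) = 4 ∧ IsCyclic (M ≃ₐ[K] M) := by
  have hxrM := xr_sq (Ω := M) hx hrM2
  have hM2 : (2 : M) ≠ 0 := by
    rw [← map_ofNat (algebraMap K M) 2]
    exact (_root_.map_ne_zero _).2 hK
  obtain ⟨σ, hσ⟩ : ∃ σ : M ≃ₐ[K] M, σ rM ≠ rM := by
    by_contra hcon
    push Not at hcon
    have h1 : rM ∈ (⊥ : IntermediateField K M) := (IsGalois.mem_bot_iff_fixed rM).2 hcon
    obtain ⟨c, hc⟩ := IntermediateField.mem_bot.1 h1
    exact hrK c hc.symm
  have hσr : σ rM = -rM := by
    have h1 : (σ rM) ^ 2 = rM ^ 2 := by rw [← map_pow, hrM2, AlgEquiv.commutes]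
    rcases sq_eq_sq_iff_eq_or_eq_neg.1 h1 with h | h
    · exact absurd h hσ
    · exact h
  have hσθ0 : σ θM ≠ 0 := (_root_.map_ne_zero σ).2 hθM0
  have hprod : ∃ e : K, σ θM * θM = algebraMap K M e * rM := by
    have h1 : (σ θM * θM) ^ 2 = (algebraMap K M x * rM) ^ 2 := by
      rw [mul_pow, ← map_pow, hθM2, map_add, AlgEquiv.commutes, hσr, hxrM]
      ring
    rcases sq_eq_sq_iff_eq_or_eq_neg.1 h1 with h | h
    · exact ⟨x, h⟩
    · exact ⟨-x, by rw [h, map_neg, neg_mul]⟩
  obtain ⟨e, he⟩ := hprod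
  have hσ2 : σ (σ θM) = -θM := by
    have h1 := congrArg σ he
    rw [map_mul, map_mul, AlgEquiv.commutes, hσr] at h1
    have h2 : (σ (σ θM) + θM) * σ θM = 0 := by
      rw [add_mul, h1, mul_comm θM, he]
      ring
    rcases mul_eq_zero.1 h2 with h | h
    · exact eq_neg_of_add_eq_zero_left h
    · exact absurd h hσθ0
  have hθne : -θM ≠ θM := by
    intro h
    have h1 : (2 : M) * θM = 0 := by
      have : θM + θM = 0 := by
        nth_rewrite 1 [← h]
        exact neg_add_cancel θM
      rw [two_mul, this]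
    rcases mul_eq_zero.1 h1 with h | h
    · exact hM2 h
    · exact hθM0 h
  have hrne : -rM ≠ rM := fun h => hσ (hσr.trans h)
  have hcard : Nat.card (M ≃ₐ[K] M) = Module.finrank K M := IsGalois.card_aut_eq_finrank K M
  have hord : orderOf σ = 4 := by
    have hdvd : orderOf σ ∣ Nat.card (M ≃ₐ[K] M) := orderOf_dvd_natCard σ
    have hle : orderOf σ ≤ 4 := (Nat.le_of_dvd Nat.card_pos hdvd).trans (hcard ▸ hdeg)
    have hpos : 0 < orderOf σ := orderOf_pos σ
    have hpow := pow_orderOf_eq_one σ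
    have h1 : orderOf σ ≠ 1 := fun h => by
      rw [h, pow_one] at hpow
      exact hσ (by rw [hpow]; rfl)
    have h2 : orderOf σ ≠ 2 := fun h => by
      rw [h, sq] at hpow
      have h4 : σ (σ θM) = θM := DFunLike.congr_fun hpow θM
      exact hθne (hσ2.symm.trans h4)
    have h3 : orderOf σ ≠ 3 := fun h => by
      rw [h, pow_succ, sq] at hpow
      have h4 : σ (σ (σ rM)) = rM := DFunLike.congr_fun hpow rM
      rw [hσr, map_neg, hσr, neg_neg, hσr] at h4
      exact hrne h4
    omega
  have h4 : Nat.card (M ≃ₐ[K] M) = 4 := by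
    refine le_antisymm (hcard ▸ hdeg) ?_
    rw [← hord]
    exact Nat.le_of_dvd Nat.card_pos (orderOf_dvd_natCard σ)
  exact ⟨h4, isCyclic_of_orderOf_eq_card σ (hord.trans h4.symm)⟩

end Cyclic

/-- The quadratic step, with a given Galois extension containing the square roots. -/
theorem exists_quad_aux {K Ω : Type u} [Field K] [Field Ω] [Algebra K Ω] [IsGalois K Ω] {d : ℕ}
    (hK : (2 : K) ≠ 0) {a x : K} (hx : a = 1 + x ^ 2) (ha : ∀ b : K, b ^ 2 ≠ a) {r θ : Ω}
    (hr : r ^ 2 = algebraMap K Ω a) (hθ : θ ^ 2 = algebraMap K Ω a + r) :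
    ∃ (E : Type u) (_ : Field E) (_ : Algebra K E) (_ : FiniteDimensional K E)
      (_ : Algebra.IsSeparable K E) (r : E), r ^ 2 = algebraMap K E a ∧ (Cd E 2 d → Cd K 2 d) := by
  have hirr : Irreducible (X ^ 2 - C a : K[X]) := X_pow_sub_C_irreducible_of_prime Nat.prime_two ha
  have hmin : minpoly K r = X ^ 2 - C a := by
    refine (minpoly.eq_of_irreducible_of_monic hirr ?_ (monic_X_pow_sub_C a two_ne_zero)).symm
    simp [hr]
  have hrK : ∀ c : K, r ≠ algebraMap K Ω c := by
    rintro c rfl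
    refine ha c ((algebraMap K Ω).injective ?_)
    rw [map_pow, hr]
  have hθ0 : θ ≠ 0 := by
    rintro rfl
    refine hrK (-a) ?_
    rw [map_neg]
    linear_combination -hθ
  have hEM : K⟮r⟯ ≤ K⟮θ⟯ := by
    rw [IntermediateField.adjoin_simple_le_iff]
    exact r_mem hθ
  have hrI : IsIntegral K r := Algebra.IsIntegral.isIntegral r
  have hθI : IsIntegral K θ := Algebra.IsIntegral.isIntegral θ
  have hEfin : FiniteDimensional K K⟮r⟯ := adjoin.finiteDimensional hrI
  have hMfin : FiniteDimensional K K⟮θ⟯ := adjoin.finiteDimensional hθI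
  have hEgal : IsGalois K K⟮r⟯ := isGalois_quad hr
  have hMgal : IsGalois K K⟮θ⟯ := isGalois_quartic hx hr hθ hθ0
  obtain ⟨h4, hcyc⟩ := card_and_isCyclic (M := K⟮θ⟯) hK hx (rM := ⟨r, r_mem hθ⟩)
    (θM := ⟨θ, mem_adjoin_simple_self K θ⟩) (Subtype.ext hr) (Subtype.ext hθ)
    (fun h => hθ0 (congrArg Subtype.val h)) (fun c h => hrK c (congrArg Subtype.val h))
    (finrank_le hr hθ)
  let _ : Algebra K⟮r⟯ K⟮θ⟯ := (IntermediateField.inclusion hEM).toRingHom.toAlgebra
  have : IsScalarTower K K⟮r⟯ K⟮θ⟯ := IsScalarTower.of_algebraMap_eq fun _ => rfl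
  refine ⟨K⟮r⟯, inferInstance, inferInstance, hEfin, inferInstance,
    ⟨r, mem_adjoin_simple_self K r⟩, Subtype.ext hr, fun h => ?_⟩
  refine cd_of_isCyclic K K⟮r⟯ K⟮θ⟯ Nat.prime_two ?_ h
  have h5 := Module.finrank_mul_finrank K K⟮r⟯ K⟮θ⟯
  have h6 : Module.finrank K K⟮r⟯ = 2 := by
    rw [IntermediateField.adjoin.finrank hrI, hmin, natDegree_X_pow_sub_C]
  rw [h6, ← IsGalois.card_aut_eq_finrank K K⟮θ⟯, h4] at h5
  omega

/-- The quadratic step. -/
theorem exists_quad {K : Type u} [Field K] {d : ℕ} (hK : (2 : K) ≠ 0) (a x : K) (hx : a = 1 + x ^ 2)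
    (ha : ∀ b : K, b ^ 2 ≠ a) :
    ∃ (E : Type u) (_ : Field E) (_ : Algebra K E) (_ : FiniteDimensional K E)
      (_ : Algebra.IsSeparable K E) (r : E), r ^ 2 = algebraMap K E a ∧ (Cd E 2 d → Cd K 2 d) := by
  have hΩ2 : (2 : SeparableClosure K) ≠ 0 := by
    rw [← map_ofNat (algebraMap K (SeparableClosure K)) 2]
    exact (_root_.map_ne_zero _).2 hK
  have : NeZero ((2 : ℕ) : SeparableClosure K) := ⟨by exact_mod_cast hΩ2⟩
  obtain ⟨r, hr⟩ : ∃ r : SeparableClosure K, r ^ 2 = algebraMap K (SeparableClosure K) a :=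
    IsSepClosed.exists_pow_nat_eq _ 2
  obtain ⟨θ, hθ⟩ : ∃ θ : SeparableClosure K, θ ^ 2 = algebraMap K (SeparableClosure K) a + r :=
    IsSepClosed.exists_pow_nat_eq _ 2
  exact exists_quad_aux hK hx ha hr hθ

/-- **Serre's theorem for fields, `ℓ = 2`**, `-1` a sum of `m` squares. -/
theorem sc_two {d : ℕ} (m : ℕ) : ∀ (K : Type u) [Field K] (_ : (2 : K) ≠ 0) (f : Fin m → K)
    (_ : (-1 : K) = ∑ i, f i ^ 2), SC K 2 d := by
  induction m with
  | zero =>
    intro K _ _ f hf
    rw [Finset.univ_eq_empty, Finset.sum_empty] at hf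
    exact absurd hf (neg_ne_zero.2 one_ne_zero)
  | succ m ih =>
    intro K _ hK f hf
    rw [Fin.sum_univ_succ] at hf
    let x := f 0
    let a : K := 1 + x ^ 2
    have ha : ∑ i : Fin m, f i.succ ^ 2 = -a := by
      change _ = -(1 + f 0 ^ 2)
      linear_combination -hf
    by_cases hsq : ∃ b : K, b ^ 2 = a
    · obtain ⟨b, hb⟩ := hsq
      by_cases hb0 : b = 0
      · -- `x² = -1`
        have hx : x ^ 2 = -1 := by
          rw [hb0] at hb
          have : (0 : K) ^ 2 = 1 + x ^ 2 := hb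
          linear_combination -this
        have hprim : IsPrimitiveRoot (-1 : K) 2 := by
          refine IsPrimitiveRoot.mk_of_lt _ two_pos (by norm_num) fun l hl hl2 => ?_
          obtain rfl : l = 1 := by omega
          rw [pow_one]
          intro h
          apply hK
          have : (1 : K) + 1 = 0 := by
            nth_rewrite 1 [← h]
            exact neg_add_cancel 1
          rw [← one_add_one_eq_two, this]
        have hx4 : IsPrimitiveRoot x (2 * 2) := by
          have h1 : x ^ 4 = 1 := by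
            have : x ^ 4 = (x ^ 2) ^ 2 := by ring
            rw [this, hx]; norm_num
          refine IsPrimitiveRoot.mk_of_lt _ (by norm_num) h1 fun l hl hl4 => ?_
          have hne : (-1 : K) ≠ 1 := by
            have := hprim.pow_ne_one_of_pos_of_lt (l := 1) one_ne_zero one_lt_two
            rwa [pow_one] at this
          have hl' : l = 1 ∨ l = 2 ∨ l = 3 := by omega
          rcases hl' with rfl | rfl | rfl
          · rw [pow_one]
            rintro h
            rw [h, one_pow] at hx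
            exact hne hx.symm
          · rw [hx]; exact hne
          · intro h
            have h3 : x ^ 3 = x * x ^ 2 := by ring
            rw [h3, hx] at h
            have h4 : x = -1 := by linear_combination -h
            rw [h4] at hx
            norm_num at hx
            exact hne hx.symm
        exact Kummer.sc_of_isPrimitiveRoot Nat.prime_two hx4
      · refine ih K hK (fun i => f i.succ / b) ?_
        have h1 : ∀ i : Fin m, (f i.succ / b) ^ 2 = f i.succ ^ 2 / b ^ 2 := fun i => div_pow _ _ _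
        rw [Finset.sum_congr rfl fun i _ => h1 i, ← Finset.sum_div, ha, hb, neg_div, div_self]
        rw [← hb]
        exact pow_ne_zero 2 hb0
    · push Not at hsq
      obtain ⟨E, _, _, _, _, r, hr, hE⟩ := exists_quad (d := d) hK a x rfl hsq
      have ha0 : a ≠ 0 := fun h => hsq 0 (by rw [h]; norm_num)
      have hr0 : r ^ 2 ≠ 0 := by rw [hr]; exact (_root_.map_ne_zero _).2 ha0
      refine SC.of_ext Nat.prime_two E (ih E ?_ (fun i => algebraMap K E (f i.succ) / r) ?_) hE
      · rw [← map_ofNat (algebraMap K E) 2]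
        exact (_root_.map_ne_zero _).2 hK
      · have h1 : ∀ i : Fin m, (algebraMap K E (f i.succ) / r) ^ 2 =
            algebraMap K E (f i.succ ^ 2) / r ^ 2 := fun i => by rw [div_pow, map_pow]
        rw [Finset.sum_congr rfl fun i _ => h1 i, ← Finset.sum_div, ← map_sum, ha, map_neg, hr,
          neg_div, div_self]
        rw [← hr]
        exact hr0

end Groth.Agent.Etbc.H201.Quartic
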