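import Groth.Agent.Etbc.H201.RealMax
import Groth.Agent.CurvesA.GalStep
import Mathlib.FieldTheory.Normal.Closure
import Mathlib.FieldTheory.IsSepClosed
import Mathlib.Algebra.QuadraticDiscriminant

/-!
# `R(√-1)` is separably closed for `R` a maximal formally real field
-/

set_option autoImplicit false

universe u v

open Polynomial

namespace Groth.Agent.Etbc.H201.RealClosed

open Groth.Agent.Etbc.H201.RealOdd Groth.Agent.Etbc.H201.RealMax

section NoQuad

variable {C : Type u} [Field C] [CharZero C] (hC : ∀ z : C, IsSquare z)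

include hC

theorem exists_root_of_natDegree_two {p : C[X]} (hp : p.natDegree = 2) : ∃ x, p.eval x = 0 := by
  have h0 : p.coeff 2 ≠ 0 := by
    rw [← hp, coeff_natDegree]
    refine leadingCoeff_ne_zero.2 ?_
    rintro rfl
    simp at hp
  obtain ⟨x, hx⟩ := exists_quadratic_eq_zero (a := p.coeff 2) (b := p.coeff 1) (c := p.coeff 0) h0
    (hC _)
  refine ⟨x, ?_⟩
  rw [eval_eq_sum_range, hp, Finset.sum_range_succ, Finset.sum_range_succ, Finset.sum_range_one]
  linear_combination hx

theorem finrank_ne_two (M : Type v) [Field M] [Algebra C M] : Module.finrank C M ≠ 2 := by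
  intro h2
  have hfd : FiniteDimensional C M := FiniteDimensional.of_finrank_pos (by omega)
  have hsurj : ∀ x : M, x ∈ (⊥ : IntermediateField C M) := by
    intro x
    have hint : IsIntegral C x := IsIntegral.of_finite C x
    have hirr := minpoly.irreducible hint
    have hdvd : (minpoly C x).natDegree ∣ 2 := by
      rw [← h2]
      exact minpoly.degree_dvd hint
    rcases (Nat.dvd_prime Nat.prime_two).1 hdvd with h1 | h1
    · rw [← IntermediateField.adjoin_simple_eq_bot_iff, ← IntermediateField.finrank_eq_one_iff,
        IntermediateField.adjoin.finrank hint, h1]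
    · obtain ⟨y, hy⟩ := exists_root_of_natDegree_two hC h1
      have := degree_eq_one_of_irreducible_of_root hirr hy
      rw [degree_eq_natDegree hirr.ne_zero, h1] at this
      norm_num at this
  have htop : (⊥ : IntermediateField C M) = ⊤ := by
    rw [eq_top_iff]
    exact fun x _ => hsurj x
  have h1 : Module.finrank C M = 1 := by
    rw [← IntermediateField.finrank_top', ← htop, IntermediateField.finrank_bot]
  omega

theorem card_ne (m : ℕ) : ∀ (M : Type u) [Field M] [Algebra C M] [FiniteDimensional C M]
    [IsGalois C M], Nat.card (M ≃ₐ[C] M) ≠ 2 ^ (m + 1) := by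
  induction m with
  | zero =>
    intro M _ _ _ _ h
    rw [IsGalois.card_aut_eq_finrank] at h
    exact finrank_ne_two hC M (by simpa using h)
  | succ m ih =>
    intro M _ _ _ _ h
    obtain ⟨E', _, hE', -, -⟩ :=
      Groth.Agent.CurvesA.GalStep.exists_central_field C M 2 Nat.prime_two (m + 1) h
    exact ih E' hE'

end NoQuad

section

variable {R : Type u} [Field R] (h : IsMax R)

include h

theorem finrank_pow_two (N : Type u) [Field N] [Algebra R N] [FiniteDimensional R N]
    [IsGalois R N] : ∃ n, Module.finrank R N = 2 ^ n := by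
  obtain ⟨L', ⟨n, hn⟩, h2⟩ :=
    Groth.Agent.CurvesA.GalStep.exists_sylow_field R N 2 Nat.prime_two
  have h1 : Module.finrank R L' = 1 :=
    finrank_eq_one_of_odd h L' (by rwa [← Nat.not_even_iff_odd, even_iff_two_dvd])
  refine ⟨n, ?_⟩
  rw [← Module.finrank_mul_finrank R L' N, h1, one_mul, ← hn, IsGalois.card_aut_eq_finrank]

/-- The field `R(√-1)`. -/
theorem finrank_quad_eq_one [Fact (∀ r : R, r ^ 2 ≠ -1 + 0 * r)] (M : Type u) [Field M]
    [Algebra (QuadraticAlgebra R (-1 : R) 0) M] [FiniteDimensional (QuadraticAlgebra R (-1 : R) 0) M] :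
    Module.finrank (QuadraticAlgebra R (-1 : R) 0) M = 1 := by
  have hR0 := charZero h.real
  let C := QuadraticAlgebra R (-1 : R) 0
  let _ : Algebra R M := ((algebraMap C M).comp (algebraMap R C)).toAlgebra
  have : IsScalarTower R C M := IsScalarTower.of_algebraMap_eq fun _ => rfl
  have : FiniteDimensional R M := FiniteDimensional.trans R C M
  let N := IntermediateField.normalClosure R M (AlgebraicClosure M)
  have : Algebra.IsAlgebraic R M := inferInstance
  let _ : Algebra C N := ((algebraMap M N).comp (algebraMap C M)).toAlgebra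
  have : IsScalarTower C M N := IsScalarTower.of_algebraMap_eq fun _ => rfl
  have : IsScalarTower R C N := IsScalarTower.of_algebraMap_eq fun x => by
    rw [IsScalarTower.algebraMap_apply R M N, IsScalarTower.algebraMap_apply R C M]
    rfl
  have : FiniteDimensional C N := FiniteDimensional.right R C N
  have : IsGalois R N := ⟨⟩
  have : IsGalois C N := IsGalois.tower_top_of_isGalois R C N
  obtain ⟨n, hn⟩ := finrank_pow_two h N
  have hC2 : Module.finrank R C = 2 := QuadraticAlgebra.finrank_eq_two (-1) 0
  have hmul : 2 * Module.finrank C N = 2 ^ n := by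
    rw [← hn, ← hC2, Module.finrank_mul_finrank]
  have hN1 : Module.finrank C N = 1 := by
    rcases n with _ | _ | m
    · omega
    · omega
    · exfalso
      refine card_ne (C := C) (isSquare_quad h) m N ?_
      rw [IsGalois.card_aut_eq_finrank]
      rw [pow_succ] at hmul
      omega
  have hdvd : Module.finrank C M ∣ Module.finrank C N := ⟨_, (Module.finrank_mul_finrank C M N).symm⟩
  rw [hN1] at hdvd
  exact Nat.dvd_one.1 hdvd

theorem isSepClosed_quad [Fact (∀ r : R, r ^ 2 ≠ -1 + 0 * r)] :
    IsSepClosed (QuadraticAlgebra R (-1 : R) 0) := by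
  refine IsSepClosed.of_exists_root _ fun p hp hirr _ => ?_
  have : Fact (Irreducible p) := ⟨hirr⟩
  have : FiniteDimensional (QuadraticAlgebra R (-1 : R) 0) (AdjoinRoot p) :=
    (AdjoinRoot.powerBasis hirr.ne_zero).finite
  have h1 := finrank_quad_eq_one h (AdjoinRoot p)
  rw [(AdjoinRoot.powerBasis hirr.ne_zero).finrank, AdjoinRoot.powerBasis_dim] at h1
  refine exists_root_of_degree_eq_one ?_
  rw [degree_eq_natDegree hirr.ne_zero, h1]
  rfl

end

end Groth.Agent.Etbc.H201.RealClosed
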