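import Groth.Agent.Etbc.H201.RealOdd
import Mathlib.FieldTheory.IsAlgClosed.AlgebraicClosure
import Mathlib.Algebra.QuadraticAlgebra.Basic
import Mathlib.Order.Zorn

/-!
# Maximal formally real algebraic extensions (real closures)
-/

set_option autoImplicit false

universe u v

open Polynomial

namespace Groth.Agent.Etbc.H201.RealMax

open Groth.Agent.Etbc.H201.RealOdd

/-- A field which is formally real and has no non-trivial finite formally real extension. -/
structure IsMax (R : Type u) [Field R] : Prop where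
  real : ¬ IsSumSq (-1 : R)
  max : ∀ (L : Type u) [Field L] [Algebra R L] [FiniteDimensional R L], ¬ IsSumSq (-1 : L) →
    Module.finrank R L = 1

theorem exists_isMax (K : Type u) [Field K] (hK : ¬ IsSumSq (-1 : K)) :
    ∃ (R : Type u) (_ : Field R) (_ : Algebra K R), Algebra.IsAlgebraic K R ∧ IsMax R := by
  let Ω := AlgebraicClosure K
  obtain ⟨R, -, hR⟩ := zorn_le_nonempty₀ {E : IntermediateField K Ω | ¬ IsSumSq (-1 : E)} (by
    intro c hc hchain y hy
    refine ⟨sSup c, ?_, fun z hz => le_sSup hz⟩
    intro hs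
    obtain ⟨n, f, hf⟩ := exists_fin_sum hs
    have : Nonempty c := ⟨⟨y, hy⟩⟩
    have hdir : Directed (· ≤ ·) (fun E : c => (E : IntermediateField K Ω)) :=
      hchain.directedOn.directed_val
    have hmem : ∀ i, ∃ E : c, (f i : Ω) ∈ (E : IntermediateField K Ω) := by
      intro i
      have h1 : (f i : Ω) ∈ ((⨆ E : c, (E : IntermediateField K Ω) : IntermediateField K Ω) : Set Ω) := by
        rw [← sSup_eq_iSup']
        exact (f i).2
      rw [IntermediateField.coe_iSup_of_directed hdir, Set.mem_iUnion] at h1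
      exact h1
    choose E hE using hmem
    obtain ⟨E', hE'⟩ := hdir.finite_le E
    refine hc E'.2 ?_
    have h2 : (-1 : (E' : IntermediateField K Ω)) =
        ∑ i, (⟨f i, hE' i (hE i)⟩ * ⟨f i, hE' i (hE i)⟩ : (E' : IntermediateField K Ω)) := by
      apply Subtype.ext
      have h3 := congrArg (fun z : (sSup c : IntermediateField K Ω) => (z : Ω)) hf
      simpa using h3
    rw [h2]
    exact IsSumSq.sum_mul_self _ _) ⊥ (by
      intro hs
      exact hK (neg_one_of_ringHom
        (IntermediateField.botEquiv K Ω).toAlgHom.toRingHom hs))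
  refine ⟨R, inferInstance, inferInstance, inferInstance, hR.prop, ?_⟩
  intro L _ _ _ hL
  let φ : L →ₐ[R] Ω := IsAlgClosed.lift
  let R' : IntermediateField K Ω := φ.fieldRange.restrictScalars K
  have hle : R ≤ R' := by
    intro x hx
    exact ⟨algebraMap R L ⟨x, hx⟩, φ.commutes _⟩
  have hR' : ¬ IsSumSq (-1 : R') := by
    intro hs
    let e : L ≃ₐ[R] φ.fieldRange := AlgEquiv.ofInjectiveField φ
    exact hL (neg_one_of_ringHom (A := φ.fieldRange) e.symm.toAlgHom.toRingHom hs)
  have hge : R' ≤ R := hR.le_of_ge hR' hle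
  have hbij : Function.Bijective (algebraMap R L) := by
    refine ⟨(algebraMap R L).injective, fun y => ?_⟩
    have h1 : φ y ∈ R := hge ⟨y, rfl⟩
    refine ⟨⟨φ y, h1⟩, φ.injective ?_⟩
    exact φ.commutes _
  exact (LinearEquiv.ofBijective (Algebra.linearMap R L) hbij).finrank_eq.symm.trans
    (Module.finrank_self R)

section

variable {R : Type u} [Field R] (h : IsMax R)

include h

theorem finrank_eq_one_of_odd (L : Type u) [Field L] [Algebra R L] [FiniteDimensional R L]
    (hodd : Odd (Module.finrank R L)) : Module.finrank R L = 1 :=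
  h.max L (not_isSumSq_of_odd h.real L hodd)

omit h in
theorem re_of_isSumSq {a : R} {z : QuadraticAlgebra R a 0} (hz : IsSumSq z) :
    ∃ s t : R, IsSumSq s ∧ IsSumSq t ∧ z.re = s + a * t := by
  induction hz with
  | zero => exact ⟨0, 0, IsSumSq.zero, IsSumSq.zero, by simp⟩
  | @sq_add y w hw ih =>
    obtain ⟨s, t, hs, ht, e⟩ := ih
    refine ⟨y.re * y.re + s, y.im * y.im + t, IsSumSq.sq_add _ hs, IsSumSq.sq_add _ ht, ?_⟩
    rw [QuadraticAlgebra.re_add, QuadraticAlgebra.re_mul, e]
    ring

theorem isSumSq_neg_of_not_isSquare {a : R} (ha : ¬ IsSquare a) : IsSumSq (-a) := by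
  have : Fact (∀ r : R, r ^ 2 ≠ a + 0 * r) := ⟨fun r hr => ha ⟨r, by linear_combination -hr⟩⟩
  have hf : Module.finrank R (QuadraticAlgebra R a 0) = 2 := QuadraticAlgebra.finrank_eq_two a 0
  have h1 : IsSumSq (-1 : QuadraticAlgebra R a 0) := by
    by_contra hc
    have := h.max (QuadraticAlgebra R a 0) hc
    omega
  obtain ⟨s, t, hs, ht, e⟩ := re_of_isSumSq h1
  have e' : -1 = s + a * t := by
    rw [QuadraticAlgebra.re_neg, QuadraticAlgebra.re_one] at e
    exact e
  have ht0 : t ≠ 0 := by
    rintro rfl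
    apply h.real
    rw [e', mul_zero, add_zero]
    exact hs
  have e2 : -a = (1 + s) * t * (t⁻¹ * t⁻¹) := by
    field_simp
    linear_combination e'
  rw [e2]
  exact ((IsSumSq.one.add hs).mul ht).mul (IsSumSq.mul_self _)

theorem isSquare_of_isSumSq {a : R} (ha : IsSumSq a) : IsSquare a := by
  by_contra hc
  have h1 := isSumSq_neg_of_not_isSquare h hc
  have h2 := eq_zero_of_add h.real ha h1 (add_neg_cancel a)
  exact hc (by rw [h2]; exact IsSquare.zero)

theorem isSquare_or (a : R) : IsSquare a ∨ IsSquare (-a) := by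
  by_cases ha : IsSquare a
  · exact Or.inl ha
  · exact Or.inr (isSquare_of_isSumSq h (isSumSq_neg_of_not_isSquare h ha))

theorem not_isSquare_neg_one : ¬ IsSquare (-1 : R) := fun hc => h.real hc.isSumSq

theorem fact_neg_one : Fact (∀ r : R, r ^ 2 ≠ -1 + 0 * r) :=
  ⟨fun r hr => not_isSquare_neg_one h ⟨r, by linear_combination -hr⟩⟩

theorem isSquare_quad (z : QuadraticAlgebra R (-1 : R) 0) : IsSquare z := by
  have := charZero h.real
  obtain ⟨x, y⟩ := z
  suffices hs : ∃ u v : R, x = u * u - v * v ∧ y = 2 * (u * v) by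
    obtain ⟨u, v, rfl, rfl⟩ := hs
    refine ⟨⟨u, v⟩, ?_⟩
    ext
    · simp
      ring
    · simp
      ring
  by_cases hy : y = 0
  · subst hy
    rcases isSquare_or h x with ⟨w, hw⟩ | ⟨w, hw⟩
    · exact ⟨w, 0, by rw [hw]; ring, by ring⟩
    · exact ⟨0, w, by linear_combination -hw, by ring⟩
  obtain ⟨s, hs⟩ := isSquare_of_isSumSq h ((IsSumSq.mul_self x).add (IsSumSq.mul_self y))
  rcases isSquare_or h ((x + s) / 2) with ⟨w, hw⟩ | ⟨w, hw⟩
  · have hw0 : w ≠ 0 := by
      rintro rfl
      have h1 : x + s = 0 := by linear_combination 2 * hw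
      have h2 : y * y = 0 := by linear_combination hs + (s - x) * h1
      exact hy (mul_self_eq_zero.1 h2)
    refine ⟨w, y / (2 * w), ?_, by field_simp⟩
    have h3 : x + s = 2 * (w * w) := by linear_combination 2 * hw
    field_simp
    have h4 : s = 2 * (w * w) - x := by linear_combination h3
    rw [h4] at hs
    linear_combination hs
  · have hw0 : w ≠ 0 := by
      rintro rfl
      have h1 : x + s = 0 := by linear_combination -2 * hw
      have h2 : y * y = 0 := by linear_combination hs + (s - x) * h1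
      exact hy (mul_self_eq_zero.1 h2)
    refine ⟨y / (2 * w), w, ?_, by field_simp⟩
    have h3 : x + s = -2 * (w * w) := by linear_combination -2 * hw
    field_simp
    have h4 : s = -2 * (w * w) - x := by linear_combination h3
    rw [h4] at hs
    linear_combination -hs

end

end Groth.Agent.Etbc.H201.RealMax
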