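import Groth.Agent.Etbc.H205.Ordering
import Mathlib.Algebra.Ring.Semireal.Defs
import Mathlib.FieldTheory.PrimitiveElement
import Mathlib.RingTheory.AdjoinRoot
import Mathlib.FieldTheory.IsAlgClosed.Basic

/-!
# Odd degree extensions of formally real fields are formally real
-/

set_option autoImplicit false

universe u v

open Polynomial

namespace Groth.Agent.Etbc.H201.RealOdd

theorem isSumSq_map {A : Type u} {B : Type v} [CommRing A] [CommRing B] (f : A →+* B) {x : A}
    (h : IsSumSq x) : IsSumSq (f x) := by
  induction h with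
  | zero => rw [map_zero]; exact IsSumSq.zero
  | @sq_add a s hs ih => rw [map_add, map_mul]; exact IsSumSq.sq_add _ ih

theorem neg_one_of_ringHom {A : Type u} {B : Type v} [CommRing A] [CommRing B] (f : A →+* B)
    (h : IsSumSq (-1 : A)) : IsSumSq (-1 : B) := by
  have := isSumSq_map f h
  rwa [map_neg, map_one] at this

theorem exists_fin_sum {A : Type u} [CommRing A] {x : A} (h : IsSumSq x) :
    ∃ (n : ℕ) (f : Fin n → A), x = ∑ i, f i * f i := by
  induction h with
  | zero => exact ⟨0, Fin.elim0, by simp⟩
  | @sq_add a s hs ih =>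
    obtain ⟨n, f, hf⟩ := ih
    refine ⟨n + 1, Fin.cons a f, ?_⟩
    rw [Fin.sum_univ_succ, hf]
    simp

variable {R : Type u} [Field R] (hR : ¬ IsSumSq (-1 : R))

include hR

theorem eq_zero_of_add {a b : R} (ha : IsSumSq a) (hb : IsSumSq b) (h : a + b = 0) : a = 0 := by
  by_contra ha0
  apply hR
  have h1 : (-1 : R) = b * a * (a⁻¹ * a⁻¹) := by
    field_simp
    linear_combination -h
  rw [h1]
  exact (hb.mul ha).mul (IsSumSq.mul_self _)

theorem charZero : CharZero R := by
  obtain ⟨o, ho⟩ := Groth.Agent.Etbc.H205.Ordering.exists_order hR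
  infer_instance

theorem lc_of_isSumSq {f : R[X]} (hf : IsSumSq f) : IsSumSq f.leadingCoeff ∧ Even f.natDegree := by
  induction hf with
  | zero => simp
  | @sq_add a s hs ih =>
    obtain ⟨ih1, ih2⟩ := ih
    have ha1 : IsSumSq (a * a).leadingCoeff := by
      rw [leadingCoeff_mul]; exact IsSumSq.mul_self _
    have ha2 : Even (a * a).natDegree := by
      by_cases ha : a = 0
      · simp [ha]
      · rw [natDegree_mul ha ha]; exact ⟨_, rfl⟩
    rcases lt_trichotomy (a * a).degree s.degree with h | h | h
    · rw [leadingCoeff_add_of_degree_lt h, natDegree_add_eq_right_of_degree_lt h]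
      exact ⟨ih1, ih2⟩
    · by_cases hz : (a * a).leadingCoeff + s.leadingCoeff = 0
      · have h3 : a * a = 0 := leadingCoeff_eq_zero.1 (eq_zero_of_add hR ha1 ih1 hz)
        rw [h3, zero_add]
        exact ⟨ih1, ih2⟩
      · rw [leadingCoeff_add_of_degree_eq h hz]
        refine ⟨ha1.add ih1, ?_⟩
        have h4 : (a * a + s).degree = s.degree := by
          rw [degree_add_eq_of_leadingCoeff_add_ne_zero hz, h, max_self]
        rw [natDegree_eq_of_degree_eq h4]
        exact ih2
    · rw [leadingCoeff_add_of_degree_lt' h, natDegree_add_eq_left_of_degree_lt h]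
      exact ⟨ha1, ha2⟩

theorem poly_ne_zero {S : R[X]} (hS : IsSumSq S) : 1 + S ≠ 0 := by
  intro h
  apply hR
  have h1 := isSumSq_map (evalRingHom (0 : R)) hS
  have h2 : (evalRingHom (0 : R)) S = -1 := by
    have := congrArg (evalRingHom (0 : R)) h
    rw [map_add, map_one, map_zero] at this
    linear_combination this
  rwa [h2] at h1

omit hR in
theorem exists_irreducible_odd {h : R[X]} (hh : Odd h.natDegree) :
    ∃ q : R[X], Irreducible q ∧ q ∣ h ∧ Odd q.natDegree := by
  have h0 : h ≠ 0 := by rintro rfl; simp at hh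
  revert hh
  induction h using WfDvdMonoid.induction_on_irreducible with
  | zero => exact absurd rfl h0
  | unit u hu =>
    intro hh
    rw [natDegree_eq_zero_of_isUnit hu] at hh
    simp at hh
  | mul a i ha hi ih =>
    intro hh
    rw [natDegree_mul hi.ne_zero ha] at hh
    rcases Nat.even_or_odd i.natDegree with hi' | hi'
    · obtain ⟨q, hq, hd, ho⟩ := ih ha ((Nat.odd_add'.1 hh).2 hi')
      exact ⟨q, hq, hd.mul_left _, ho⟩
    · exact ⟨i, hi, dvd_mul_right _ _, hi'⟩

theorem not_isSumSq_adjoinRoot (n : ℕ) : ∀ p : R[X], Irreducible p → p.natDegree = n → Odd n →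
    ¬ IsSumSq (-1 : AdjoinRoot p) := by
  induction n using Nat.strong_induction_on with
  | _ n ih =>
    intro p hp hpn hn hs
    obtain ⟨m, f, hf⟩ := exists_fin_sum hs
    have hg : ∀ i, ∃ g : R[X], AdjoinRoot.mk p g = f i ∧ g.natDegree < n := by
      intro i
      obtain ⟨g', hg'⟩ := AdjoinRoot.mk_surjective (g := p) (f i)
      refine ⟨g' % p, ?_, ?_⟩
      · rw [← hg', AdjoinRoot.mk_eq_mk]
        refine ⟨-(g' / p), ?_⟩
        have := EuclideanDomain.div_add_mod g' p
        linear_combination this
      · rw [← hpn]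
        exact natDegree_mod_lt g' (by rw [hpn]; rintro rfl; simp at hn)
    choose g hg1 hg2 using hg
    have hS : IsSumSq (∑ i, g i * g i) := IsSumSq.sum_mul_self _ _
    have hF0 := poly_ne_zero hR hS
    have hFS : IsSumSq (1 + ∑ i, g i * g i) := IsSumSq.one.add hS
    obtain ⟨-, hev⟩ := lc_of_isSumSq hR hFS
    have hdvd : p ∣ 1 + ∑ i, g i * g i := by
      rw [← AdjoinRoot.mk_eq_zero, map_add, map_one, map_sum]
      have : ∑ i, AdjoinRoot.mk p (g i * g i) = -1 := by
        rw [hf]
        exact Finset.sum_congr rfl fun i _ => by rw [map_mul, hg1]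
      rw [this, add_neg_cancel]
    obtain ⟨h, hh⟩ := hdvd
    have hh0 : h ≠ 0 := by rintro rfl; rw [mul_zero] at hh; exact hF0 hh
    have hdeg : (1 + ∑ i, g i * g i).natDegree = n + h.natDegree := by
      rw [hh, natDegree_mul hp.ne_zero hh0, hpn]
    have hodd : Odd h.natDegree := by
      rw [hdeg] at hev
      have h2 : ¬ Odd (n + h.natDegree) := Nat.not_odd_iff_even.2 hev
      rw [Nat.odd_add] at h2
      rcases Nat.even_or_odd h.natDegree with h' | h'
      · exact absurd (iff_of_true hn h') h2
      · exact h'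
    have hle : (1 + ∑ i, g i * g i).natDegree ≤ 2 * (n - 1) := by
      refine (natDegree_add_le _ _).trans (max_le (by simp) ?_)
      refine natDegree_sum_le_of_forall_le _ _ fun i _ => ?_
      refine natDegree_mul_le.trans ?_
      have := hg2 i
      omega
    obtain ⟨q, hq, hqd, hqo⟩ := exists_irreducible_odd hodd
    have hqn : q.natDegree < n := by
      have := natDegree_le_of_dvd hqd hh0
      have hn1 : 0 < n := hn.pos
      omega
    refine ih _ hqn q hq rfl hqo ?_
    have h3 : AdjoinRoot.mk q (1 + ∑ i, g i * g i) = 0 := by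
      rw [AdjoinRoot.mk_eq_zero, hh]
      exact hqd.mul_left _
    have h4 : (-1 : AdjoinRoot q) = AdjoinRoot.mk q (∑ i, g i * g i) := by
      rw [map_add, map_one] at h3
      linear_combination -h3
    rw [h4]
    exact isSumSq_map _ hS

/-- **Odd degree extensions of formally real fields are formally real.** -/
theorem not_isSumSq_of_odd (L : Type v) [Field L] [Algebra R L] [FiniteDimensional R L]
    (hodd : Odd (Module.finrank R L)) : ¬ IsSumSq (-1 : L) := by
  intro hs
  have := charZero hR
  obtain ⟨α, hα⟩ := Field.exists_primitive_element R L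
  have hint : IsIntegral R α := IsIntegral.of_finite R α
  have hdeg : (minpoly R α).natDegree = Module.finrank R L := by
    rw [← IntermediateField.adjoin.finrank hint, hα, IntermediateField.finrank_top']
  refine not_isSumSq_adjoinRoot hR _ (minpoly R α) (minpoly.irreducible hint) hdeg hodd ?_
  let e : AdjoinRoot (minpoly R α) ≃ₐ[R] IntermediateField.adjoin R {α} :=
    IntermediateField.adjoinRootEquivAdjoin R hint
  refine neg_one_of_ringHom e.symm.toAlgHom.toRingHom ?_
  let e2 : L ≃ₐ[R] IntermediateField.adjoin R {α} :=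
    IntermediateField.topEquiv.symm.trans (IntermediateField.equivOfEq hα.symm)
  exact neg_one_of_ringHom e2.toAlgHom.toRingHom hs

end Groth.Agent.Etbc.H201.RealOdd
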