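import Groth.Agent.Etbc.H201.Cyclo
import Groth.Agent.Etbc.H201.Quartic
import Groth.Agent.Etbc.H201.Insep
import Mathlib.FieldTheory.PurelyInseparable.PerfectClosure
import Mathlib.FieldTheory.SeparableClosure

/-!
# Serre's theorem for fields

If `k'/k` is a finite extension, `ℓ ≠ 0` in `k`, `cd_ℓ(k') ≤ d`, and `ℓ ≠ 2` or `k` is not
orderable, then `cd_ℓ(k) ≤ d`.
-/

set_option autoImplicit false

universe u

open CategoryTheory AlgebraicGeometry

namespace Groth.Agent.Etbc.H201.Serre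

open Groth.Agent.Etbc.H201.CdField Groth.Agent.Etbc.H201.Tower

/-- Serre's theorem for finite separable extensions. -/
theorem sc (k : Type u) [Field k] {ℓ : ℕ} (hℓ : ℓ.Prime) (hℓk : (ℓ : k) ≠ 0) (d : ℕ)
    (hord : ℓ ≠ 2 ∨ ¬ ∃ _ : LinearOrder k, IsStrictOrderedRing k) : SC k ℓ d := by
  by_cases h2 : ℓ = 2
  · subst h2
    have hs := Groth.Agent.Etbc.H205.Ordering.isSumSq_neg_one
      (hord.resolve_left (fun h => h rfl))
    obtain ⟨n, f, hf⟩ := Groth.Agent.Etbc.H205.Ordering.exists_fin_sum hs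
    exact Quartic.sc_two n k (by exact_mod_cast hℓk) f hf
  · exact Cyclo.sc_odd hℓ h2 hℓk

/-- **Serre's theorem for fields.** -/
theorem serre_finite (k k' : Type u) [Field k] [Field k'] [Algebra k k'] [FiniteDimensional k k']
    (ℓ : ℕ) (hℓ : ℓ.Prime) (hℓk : (ℓ : k) ≠ 0) (d : ℕ)
    (h : Dix.CohDimLEAt (Spec (CommRingCat.of k')) ℓ d)
    (hord : ℓ ≠ 2 ∨ ¬ ∃ _ : LinearOrder k, IsStrictOrderedRing k) :
    Dix.CohDimLEAt (Spec (CommRingCat.of k)) ℓ d := by
  let E := separableClosure k k'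
  have hE : Cd E ℓ d := Insep.cd_of_isPurelyInseparable E k' hℓ h
  have : FiniteDimensional k E := inferInstance
  exact sc k hℓ hℓk d hord E hE

/-- The same with `-1` a sum of squares instead of non-orderability. -/
theorem serre_finite' (k k' : Type u) [Field k] [Field k'] [Algebra k k'] [FiniteDimensional k k']
    (ℓ : ℕ) (hℓ : ℓ.Prime) (hℓk : (ℓ : k) ≠ 0) (d : ℕ)
    (h : Dix.CohDimLEAt (Spec (CommRingCat.of k')) ℓ d)
    (hord : ℓ = 2 → IsSumSq (-1 : k)) :
    Dix.CohDimLEAt (Spec (CommRingCat.of k)) ℓ d := by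
  refine serre_finite k k' ℓ hℓ hℓk d h ?_
  by_cases h2 : ℓ = 2
  · right
    intro ho
    exact Groth.Agent.Etbc.H205.Ordering.not_isSumSq_neg_one ho (hord h2)
  · exact Or.inl h2

end Groth.Agent.Etbc.H201.Serre
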