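import Groth.Agent.Etbc.H201.CdField
import Mathlib.FieldTheory.Normal.Basic
import Mathlib.FieldTheory.Galois.Basic
import Mathlib.GroupTheory.SpecificGroups.Cyclic

/-!
# Descent of `cd_ℓ` along cyclic towers; the class of fields satisfying Serre's theorem
-/

set_option autoImplicit false

universe u

open CategoryTheory Category Limits Opposite AlgebraicGeometry Abelian
open Groth.Agent.CurvesA.EtFieldObj

namespace Groth.Agent.Etbc.H201.Tower

open Groth.Agent.Etbc.H201.CdField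

theorem orderOf_eq_card_of_forall {G : Type*} [Group G] [Finite G] (g : G)
    (h : ∀ x : G, ∃ i : ℕ, x = g ^ i) : orderOf g = Nat.card G :=
  orderOf_eq_card_of_forall_mem_zpowers fun x => by
    obtain ⟨i, rfl⟩ := h x
    exact ⟨i, zpow_natCast g i⟩

/-- **Descent along the bottom layer `E/K` of a cyclic extension `M/K`, `[M : E] = ℓ`.** -/
theorem cd_of_isCyclic (K E M : Type u) [Field K] [Field E] [Field M] [Algebra K E] [Algebra K M]
    [Algebra E M] [IsScalarTower K E M] [FiniteDimensional K M] [IsGalois K E] [IsGalois K M]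
    [hc : IsCyclic (M ≃ₐ[K] M)] {ℓ d : ℕ} (hℓ : ℓ.Prime) (hdeg : Module.finrank E M = ℓ)
    (h : Cd E ℓ d) : Cd K ℓ d := by
  have : FiniteDimensional K E := FiniteDimensional.left K E M
  have : FiniteDimensional E M := FiniteDimensional.right K E M
  obtain ⟨σ, hσ⟩ := hc.exists_generator
  have hσ' : ∀ g : M ≃ₐ[K] M, ∃ i : ℕ, g = σ ^ i := fun g => by
    obtain ⟨i, hi⟩ := (isOfFinOrder_of_finite σ).mem_powers_iff_mem_zpowers.2 (hσ g)
    exact ⟨i, hi.symm⟩
  let s : E ≃ₐ[K] E := σ.restrictNormal E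
  have hs : ∀ g : E ≃ₐ[K] E, ∃ i : ℕ, g = s ^ i := fun g => by
    obtain ⟨τ, rfl⟩ := AlgEquiv.restrictNormalHom_surjective (F := K) (K₁ := E) (E := M) g
    obtain ⟨i, rfl⟩ := hσ' τ
    exact ⟨i, map_pow (AlgEquiv.restrictNormalHom E) σ i⟩
  refine cd_of_cyclic K E M (IsScalarTower.toAlgHom K E M) s σ (fun y => ?_) hσ' hℓ hs ?_ h
  · exact (σ.restrictNormal_commutes E y).symm
  · rw [orderOf_eq_card_of_forall σ hσ', orderOf_eq_card_of_forall s hs,
      IsGalois.card_aut_eq_finrank, IsGalois.card_aut_eq_finrank, ← hdeg, mul_comm,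
      Module.finrank_mul_finrank]

/-- Trivial extensions. -/
theorem cd_of_finrank_one (K L : Type u) [Field K] [Field L] [Algebra K L] [FiniteDimensional K L]
    [Algebra.IsSeparable K L] {ℓ d : ℕ} (hℓ : ℓ.Prime) (hc : Module.finrank K L = 1)
    (h : Cd L ℓ d) : Cd K ℓ d :=
  cd_of_coprime K L hℓ (by rw [hc]; exact hℓ.one_lt.ne' ∘ Nat.dvd_one.1) h

/-- `K` satisfies Serre's theorem in degree `d`: `cd_ℓ(L) ≤ d` implies `cd_ℓ(K) ≤ d` for all finite
separable `L/K`. -/
def SC (K : Type u) [Field K] (ℓ d : ℕ) : Prop :=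
  ∀ (L : Type u) [Field L] [Algebra K L] [FiniteDimensional K L] [Algebra.IsSeparable K L],
    Cd L ℓ d → Cd K ℓ d

/-- Transfer of Serre's theorem from a finite separable extension. -/
theorem SC.of_ext {K : Type u} [Field K] {ℓ d : ℕ} (hℓ : ℓ.Prime) (K₁ : Type u) [Field K₁]
    [Algebra K K₁] [FiniteDimensional K K₁] [Algebra.IsSeparable K K₁] (h₁ : SC K₁ ℓ d)
    (h : Cd K₁ ℓ d → Cd K ℓ d) : SC K ℓ d := by
  intro L _ _ _ _ hL
  obtain ⟨M, _, _, _, _, ⟨φ⟩, ⟨ψ⟩⟩ := exists_galois (K := K) L K₁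
  have hM : Cd M ℓ d := by
    let _ : Algebra L M := φ.toRingHom.toAlgebra
    have : IsScalarTower K L M := IsScalarTower.of_algebraMap_eq fun r => (φ.commutes r).symm
    have : FiniteDimensional L M := FiniteDimensional.right K L M
    exact Groth.Agent.Etbc.H205.AlgExt.cohDimLEAt_of_algebraic L M hℓ.ne_zero d hL
  refine h ?_
  let _ : Algebra K₁ M := ψ.toRingHom.toAlgebra
  have : IsScalarTower K K₁ M := IsScalarTower.of_algebraMap_eq fun r => (ψ.commutes r).symm
  have : FiniteDimensional K₁ M := FiniteDimensional.right K K₁ M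
  have : Algebra.IsSeparable K₁ M := Algebra.isSeparable_tower_top_of_isSeparable K K₁ M
  exact h₁ M hM

end Groth.Agent.Etbc.H201.Tower
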